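import Groth.Agent.H0Growth23.Rank
import Groth.Agent.BlowUpCoh.EulerPush
import Groth.Agent.CycLib28.PushFinite
import Groth.Agent.VarietyLib.PushEuler

/-!
# Asymptotic cohomology under generically finite pullback
-/

set_option autoImplicit false
set_option linter.style.haveILetI false
set_option linter.unusedSectionVars false
set_option backward.isDefEq.respectTransparency.types false

universe u

open CategoryTheory CategoryTheory.Limits AlgebraicGeometry TopologicalSpace Opposite Filter
open Groth.Agent.Coherent Groth.Agent.PicLib Groth.Agent.AmpleLib Groth.Agent.EulerLib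
open Groth.Agent.VarietyLib Groth.Agent.AssSch12

noncomputable section

namespace Groth.Agent.H0Growth23

variable (k : Type u) [Field k] {X Y : Scheme.{u}} [X.Over (Spec (CommRingCat.of k))]
  [Y.Over (Spec (CommRingCat.of k))] (f : Y ⟶ X)

/-- Cohomology of an acyclic module is that of its direct image. -/
theorem finrank_HH_push [QuasiCompact f] [QuasiSeparated f]
    (hf : f ≫ (X ↘ Spec (CommRingCat.of k)) = Y ↘ Spec (CommRingCat.of k)) (M : Y.Modules)
    (hM : AcyclicOverBasis (X := Y.toTopCat) (Y := X.toTopCat) f.base {V : X.Opens | IsAffineOpen V} (Coh.toAb M))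
    (q : ℕ) : Module.finrank k (Coh.HH Y M q) = Module.finrank k (Coh.HH X ((Coh.push f).obj M) q) := by
  let N := (Coh.push f).obj M
  let e : Coh.HH Y M q ≃+ Coh.HH X N q :=
    ((HHTopEquiv M q).trans (H'PushEquiv (X := Y.toTopCat) (Y := X.toTopCat) (f := f.base) X.isBasis_affineOpens
      (Coh.toAb M) hM ⊤ q)).trans (HHTopEquiv N q).symm
  have hsm : ∀ (c : k) (x : Coh.HH Y M q), e (c • x) = c • e x := by
    intro c x
    let φ := Coh.smulAb M (Coh.toGlobal (Y ↘ Spec (CommRingCat.of k)) c)
    let ψ := Coh.smulAb N (Coh.toGlobal (X ↘ Spec (CommRingCat.of k)) c)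
    have hψ : (pushSh (X := Y.toTopCat) (Y := X.toTopCat) f.base).map φ = ψ := by
      ext V m
      show (show Γ(Y, f ⁻¹ᵁ V.unop) from Y.presheaf.map (homOfLE (le_top : f ⁻¹ᵁ V.unop ≤ ⊤)).op
          (Coh.toGlobal (Y ↘ Spec (CommRingCat.of k)) c)) • (show Γ(M, f ⁻¹ᵁ V.unop) from m) =
        (show Γ(Y, f ⁻¹ᵁ V.unop) from f.app V.unop (X.presheaf.map (homOfLE (le_top : V.unop ≤ ⊤)).op
          (Coh.toGlobal (X ↘ Spec (CommRingCat.of k)) c))) • (show Γ(M, f ⁻¹ᵁ V.unop) from m)
      congr 1
      show _ = (X.presheaf.map (homOfLE (le_top : V.unop ≤ ⊤)).op ≫ f.app V.unop) _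
      rw [Scheme.Hom.naturality]
      show _ = Y.presheaf.map _ (f.appTop ((X ↘ Spec (CommRingCat.of k)).appTop
        ((Scheme.ΓSpecIso (CommRingCat.of k)).inv c)))
      rw [← hf]
      rfl
    show e (Sheaf.H.map φ q x) = Sheaf.H.map ψ q (e x)
    rw [← hψ]
    apply (HHTopEquiv N q).injective
    refine Eq.trans ?_ (SerreDual.hhTopEquiv_natural _ q _).symm
    show HHTopEquiv N q ((HHTopEquiv N q).symm _) = _
    rw [AddEquiv.apply_symm_apply]
    show H'PushEquiv (X := Y.toTopCat) (Y := X.toTopCat) (f := f.base) X.isBasis_affineOpens (Coh.toAb M) hM ⊤ q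
      (HHTopEquiv M q (Sheaf.H.map φ q x)) = _
    rw [SerreDual.hhTopEquiv_natural φ q x]
    refine (H'PushEquiv_naturality (X := Y.toTopCat) (Y := X.toTopCat) (f := f.base) X.isBasis_affineOpens
      hM hM φ ⊤ q (HHTopEquiv M q x)).trans ?_
    refine congrArg _ ?_
    exact ((HHTopEquiv N q).apply_symm_apply _).symm
  let eₗ : Coh.HH Y M q ≃ₗ[k] Coh.HH X N q := { e with map_smul' := hsm }
  exact eₗ.finrank_eq

variable [IsProper (X ↘ Spec (CommRingCat.of k))] [IsProper (Y ↘ Spec (CommRingCat.of k))] [IsProper f]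

include k in
theorem hh_pullback_eq_push (hf : f ≫ (X ↘ Spec (CommRingCat.of k)) = Y ↘ Spec (CommRingCat.of k))
    {M : Y.Modules} (hM : Coh.IsCoh M) (hz : ∀ p : ℕ, 0 < p → IsZero ((Coh.RpushAb f p).obj (Coh.toAb M)))
    (i : ℕ) (c : InvCl X) : hh k M i (pullHom f c) = hh k ((Coh.push f).obj M) i c := by
  haveI := isNoetherian_of_proper (X := X) k
  haveI := isNoetherian_of_proper (X := Y) k
  obtain ⟨L, hL, rfl⟩ := InvCl.exists_rep c
  have hLY := PicLoc.isInvertible_pullback f hL
  have hLF : FlatMod.IsFinLocFree L := fun x =>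
    let ⟨U, hx, e⟩ := isFinLocFreeOfRank_one hL x; ⟨U, 1, hx, e⟩
  haveI : Coh.IsQCoh (CohB1.tensorMod ((Scheme.Modules.pullback f).obj L) M) :=
    (isCoh_iso (AmpleLib.tensorComm _ _) (isCoh_twist hLY hM)).1
  rw [pullHom_mk, hh_mk, hh_mk, CurveRR24.finrank_HH_congr k (AmpleLib.tensorComm M ((Scheme.Modules.pullback f).obj L)) i,
    finrank_HH_push k f hf _ (acyclicOverBasis_of_isZero f _ fun p hp =>
      BlowUpCoh.isZero_rpushAb_tensor_pullback f hLF M p (hz p hp)) i]
  exact CurveRR24.finrank_HH_congr k (((projIso (f := f) hLF).app M).symm ≪≫ AmpleLib.tensorComm _ _) i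

variable [IsIntegral X] [IsIntegral Y]

section dims

variable (hf : f ≫ (X ↘ Spec (CommRingCat.of k)) = Y ↘ Spec (CommRingCat.of k))
  (hdom : f (genericPoint Y) = genericPoint X) (hd : f.residueDegree (genericPoint Y) ≠ 0)

include hf hd hdom in
theorem ptDim_genericPoint_eq :
    DimLib.ptDim (Y ↘ Spec (CommRingCat.of k)) (genericPoint Y) =
      DimLib.ptDim (X ↘ Spec (CommRingCat.of k)) (genericPoint X) := by
  haveI : LocallyOfFiniteType (f ≫ (X ↘ Spec (CommRingCat.of k))) := by rw [hf]; infer_instance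
  rw [← hf, DimLib.ptDim_comp _ f]
  suffices h : DimLib.trdegHom (f.residueFieldMap (genericPoint Y)).hom = 0 by rw [h, add_zero, hdom]
  letI := (f.residueFieldMap (genericPoint Y)).hom.toAlgebra
  haveI : FiniteDimensional (X.residueField (f (genericPoint Y))) (Y.residueField (genericPoint Y)) :=
    Module.finite_of_finrank_pos (Nat.pos_of_ne_zero hd)
  haveI : Algebra.IsAlgebraic (X.residueField (f (genericPoint Y))) (Y.residueField (genericPoint Y)) :=
    Algebra.IsAlgebraic.of_finite _ _
  show Cardinal.toNat (Algebra.trdeg (X.residueField (f (genericPoint Y))) (Y.residueField (genericPoint Y))) = 0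
  rw [trdeg_eq_zero_iff.2 inferInstance, map_zero]

include hf hd hdom in
theorem dim_eq_of_genFinite {n : ℕ} (hn : topologicalKrullDim X = n) : topologicalKrullDim Y = n := by
  rw [← hn, ← (Homeomorph.Set.univ Y).isHomeomorph.topologicalKrullDim_eq,
    ← (Homeomorph.Set.univ X).isHomeomorph.topologicalKrullDim_eq,
    DimLib.topologicalKrullDim_eq_ptDim_of_isGenericPoint (Y ↘ Spec (CommRingCat.of k)) (genericPoint_spec Y),
    DimLib.topologicalKrullDim_eq_ptDim_of_isGenericPoint (X ↘ Spec (CommRingCat.of k)) (genericPoint_spec X),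
    ptDim_genericPoint_eq k f hf hdom hd]

include hf hd hdom in
theorem eq_genericPoint_of_apply {y : Y} (hy : f y = genericPoint X) : y = genericPoint Y := by
  by_contra hne
  haveI : LocallyOfFiniteType (f ≫ (X ↘ Spec (CommRingCat.of k))) := by rw [hf]; infer_instance
  have h1 := DimLib.ptDim_apply_le (X ↘ Spec (CommRingCat.of k)) f y
  rw [hf, hy, ← ptDim_genericPoint_eq k f hf hdom hd] at h1
  have h2 := DimLib.ptDim_lt_of_specializes (Y ↘ Spec (CommRingCat.of k)) (genericPoint_specializes y) (Ne.symm hne)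
  omega

include hf hd hdom in
/-- The generic rank of the direct image of an invertible module is the degree. -/
theorem finrank_push_stalk {M : Y.Modules} (hM : PicF.IsInvertible M) :
    Module.finrank (X.presheaf.stalk (genericPoint X))
      (((Coh.push f).obj M).presheaf.stalk (genericPoint X)) = f.residueDegree (genericPoint Y) := by
  classical
  have hs : ∀ x, x ∈ ({genericPoint Y} : Finset Y) ↔ x ∈ (Set.univ : Set Y) ∧ f x = genericPoint X := fun x => by
    rw [Finset.mem_singleton]
    exact ⟨fun h => ⟨trivial, h ▸ hdom⟩, fun h => eq_genericPoint_of_apply k f hf hdom hd h.2⟩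
  have hbij := CycLib28.pushGerm_bijective f f.isClosedMap M Set.univ isClosed_univ (fun z hz => absurd trivial hz)
    (genericPoint X) {genericPoint Y} hs (fun _ => ⊤) (fun _ _ => trivial)
    (fun x hx x' hx' hne => absurd ((Finset.mem_singleton.1 hx).trans (Finset.mem_singleton.1 hx').symm) hne)
  letI := Module.compHom (M.presheaf.stalk (genericPoint Y)) (CycLib28.stalkTo f (genericPoint X) (genericPoint Y) hdom)
  let l : ((Coh.push f).obj M).presheaf.stalk (genericPoint X) →ₗ[X.presheaf.stalk (genericPoint X)]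
      M.presheaf.stalk (genericPoint Y) :=
    { toFun := fun m => CycLib28.pushGerm f M (genericPoint X) (genericPoint Y) hdom m
      map_add' := fun a b => map_add _ a b
      map_smul' := fun r m => CycLib28.pushGerm_smul f M (genericPoint X) (genericPoint Y) hdom r m }
  have hl : Function.Bijective l := by
    refine ⟨fun a b hab => hbij.1 (funext fun x => ?_), fun v => ?_⟩
    · obtain ⟨x, hx⟩ := x
      obtain rfl := Finset.mem_singleton.1 hx
      exact hab
    · obtain ⟨m, hm⟩ := hbij.2 fun x => (Finset.mem_singleton.1 x.2).symm ▸ v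
      exact ⟨m, congrFun hm ⟨genericPoint Y, Finset.mem_singleton_self _⟩⟩
  rw [(LinearEquiv.ofBijective l hl).finrank_eq]
  have hlen := CycLib28.length_stalkTo f M (genericPoint X) (genericPoint Y) hdom
  obtain ⟨W, hW, g, hg⟩ := exists_isGen hM (genericPoint Y)
  have e1 : Y.presheaf.stalk (genericPoint Y) ≃ₗ[Y.presheaf.stalk (genericPoint Y)]
      M.presheaf.stalk (genericPoint Y) :=
    LinearEquiv.ofBijective (LinearMap.toSpanSingleton _ _ (M.presheaf.germ W _ hW g))
      (EmbLib24.bijective_smul_germ hg hW)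
  have h1 : Module.length (Y.presheaf.stalk (genericPoint Y)) (M.presheaf.stalk (genericPoint Y)) = 1 := by
    letI : Field (Y.presheaf.stalk (genericPoint Y)) := (Field.toIsField Y.functionField).toField
    rw [← e1.length_eq, Module.length_eq_one]
  rw [h1, ENat.toNat_one, one_mul] at hlen
  rw [← hlen]
  letI : Field (X.presheaf.stalk (genericPoint X)) := (Field.toIsField X.functionField).toField
  rw [Module.length_eq_rank, Cardinal.toNat_toENat]
  rfl

end dims

variable [Infinite k]

/-- Pullback along a generically finite morphism multiplies `ĥ^i` by the degree. -/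
theorem hhat_pullback_genFinite (hXproj : ∃ A : X.Modules, CohB1.IsAmple A) (hYproj : ∃ B : Y.Modules, CohB1.IsAmple B)
    {n : ℕ} (hn : topologicalKrullDim X = n)
    (hf : f ≫ (X ↘ Spec (CommRingCat.of k)) = Y ↘ Spec (CommRingCat.of k))
    (hdom : f (genericPoint Y) = genericPoint X) (hd : f.residueDegree (genericPoint Y) ≠ 0)
    {L : X.Modules} (hL : PicF.IsInvertible L) (i : ℕ) :
    W4c5asymptcohfn.hhat k Y n i ((Scheme.Modules.pullback f).obj L) =
      (f.residueDegree (genericPoint Y) : ℝ) * W4c5asymptcohfn.hhat k X n i L := by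
  haveI := isNoetherian_of_proper (X := X) k
  haveI := isNoetherian_of_proper (X := Y) k
  haveI : Y.IsSeparated := isSeparated_of_proper k
  have hdY := dim_eq_of_genFinite k f hf hdom hd hn
  obtain ⟨H, hH⟩ := hYproj
  have ha : ∀ W : X.Opens, IsAffineOpen W → CohB1.IsAmple (H.restrict (f ⁻¹ᵁ W).ι) := fun W hW => by
    haveI : CompactSpace (f ⁻¹ᵁ W : Scheme.{u}) := isCompact_iff_compactSpace.1 (f.isCompact_preimage hW.isCompact)
    exact isAmple_of_iso (restrictIsoPullback _ H).symm
      (isAmple_pullback_of_isEmbedding _ (f ⁻¹ᵁ W).ι.isOpenEmbedding.isEmbedding hH)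
  obtain ⟨n₀, hn₀⟩ := Groth.Agent.S0055.result f H hH.1 ha _ (isCoh_structureModule Y)
  obtain ⟨n₁, -, hn₁⟩ := eventually_ample_and_generated hH (isInvertible_structureModule (X := Y))
  set M := CohB1.tensorMod (CohB1.tensorPow H (n₀ + n₁)) (Coh.structureModule Y)
  have hMi : PicF.IsInvertible M := isInvertible_tensorMod (isInvertible_tensorPow hH.1 _) isInvertible_structureModule
  have hM : Coh.IsCoh M := PicLib.isCoh_of_isInvertible hMi
  have hz : ∀ p : ℕ, 0 < p → IsZero ((Coh.RpushAb f p).obj (Coh.toAb M)) := fun p hp =>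
    (hn₀ _ (Nat.le_add_right _ _) p hp).of_iso ((Coh.RpushAb f p).mapIso ((toAbFunctor Y).mapIso (AmpleLib.tensorComm _ _)))
  obtain ⟨s, hs⟩ := effCl_of_gg hMi (hn₁ _ (Nat.le_add_left _ _)).2
  obtain ⟨eM⟩ := nonempty_iso_repCl M hMi
  let t : Γ(M, (⊤ : Y.Opens)) := eM.hom.app ⊤ s
  have ht : t ≠ 0 := fun h => hs (app_injective_of_mono eM.hom ⊤ (h.trans (map_zero _).symm))
  let φ : Coh.structureModule Y ⟶ M := Coherent.unitDesc M t
  haveI := CurveRR24.mono_unitDesc hMi ht
  have hbij : Function.Bijective ((DerSch.stalkFunctor Y (genericPoint Y)).map φ) := by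
    refine ⟨(ModuleCat.mono_iff_injective _).1 inferInstance, fun v => ?_⟩
    have hnot : genericPoint Y ∉ CohB1.support (cokernel φ) := fun h =>
      (CurveRR24.support_cokernel_unitDesc t h) (CurveRR24.genericPoint_mem_glocus hMi ht)
    have hsub : Subsingleton ((DerSch.stalkFunctor Y (genericPoint Y)).obj (cokernel φ)) := not_not.1 hnot
    obtain ⟨w, hw⟩ := ((ShortComplex.ShortExact.moduleCat_exact_iff_function_exact _).1
      ((ShortComplex.exact_cokernel φ).map (DerSch.stalkFunctor Y (genericPoint Y))) v).1 (@Subsingleton.elim _ hsub _ _)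
    exact ⟨w, hw⟩
  have e1 := hhatF_eq_of_bijective k ⟨H, hH⟩ hdY (isCoh_structureModule Y) hM φ hbij _
    (PicLoc.isInvertible_pullback f hL) i
  rw [hhatF_eq k n i _ _ (PicLoc.isInvertible_pullback f hL), hhatF_eq k n i _ _ (PicLoc.isInvertible_pullback f hL)] at e1
  have e2 := hhatF_eq_rank_mul k hXproj hn (isCoh_push_proper f hM) (finrank_push_stalk k f hf hdom hd hMi) L hL i
  rw [hhat_eq k n i _ (PicLoc.isInvertible_pullback f hL), e1, ← e2, hhatF_eq k n i _ L hL]
  refine congrArg (fun g => limsup g atTop) (funext fun m => ?_)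
  simp only [hseq, ← pullHom_mk f hL, ← map_pow, hh_pullback_eq_push k f hf hM hz]

end Groth.Agent.H0Growth23

end
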