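import Groth.Agent.H0Growth23.Stable

/-!
# Asymptotic cohomology of pullbacks
-/

set_option autoImplicit false
set_option linter.style.haveILetI false
set_option backward.isDefEq.respectTransparency.types false

universe u

open CategoryTheory CategoryTheory.Limits AlgebraicGeometry TopologicalSpace Filter
open Groth.Agent.Coherent Groth.Agent.PicLib Groth.Agent.AmpleLib
open scoped Topology

noncomputable section

namespace Groth.Agent.H0Growth23

variable {X Y : Scheme.{u}} (k : Type u) [Field k] [X.Over (Spec (CommRingCat.of k))]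
  [Y.Over (Spec (CommRingCat.of k))]

omit [Y.Over (Spec (CommRingCat.of k))] in
theorem support_kernel_mulSec {P : Y.Modules} (G : Y.Modules) (b : Γ(P, (⊤ : Y.Opens))) :
    CohB1.support (kernel (EulerLib.mulSec G b)) ⊆ CohB1.support G ∩ (glocus P b : Set Y)ᶜ := fun z hz => by
  refine ⟨Coherent.support_subset_of_mono (kernel.ι _) hz, fun hg => hz (subsingleton_of_forall_eq 0 fun a => ?_)⟩
  refine (ModuleCat.mono_iff_injective ((DerSch.stalkFunctor Y z).map (kernel.ι (EulerLib.mulSec G b)))).1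
    inferInstance ?_
  refine (EulerLib.bijective_stalk_mulSec G b hg).1 ?_
  rw [← ConcreteCategory.comp_apply, ← Functor.map_comp, kernel.condition, Functor.map_zero]
  erw [map_zero, map_zero]
  rfl

variable [IsProper (Y ↘ Spec (CommRingCat.of k))]

theorem hh_tensor {G R : Y.Modules} (hR : PicF.IsInvertible R) (i : ℕ) (e : EulerLib.InvCl Y) :
    hh k (CohB1.tensorMod G R) i e = hh k G i (EulerLib.InvCl.mk R hR * e) := by
  obtain ⟨e₁⟩ := nonempty_twCl G R hR
  obtain ⟨e₂⟩ := nonempty_twCl_mul G (EulerLib.InvCl.mk R hR) e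
  exact CurveRR24.finrank_HH_congr k (Coherent.tensorIso e₁.symm (Iso.refl _) ≪≫ e₂) i

/-- Multiplication by a section changes `h^i` by at most what kernel and cokernel carry. -/
theorem hh_mulSec {G P : Y.Modules} (hG : Coh.IsCoh G) (hP : PicF.IsInvertible P) (b : Γ(P, (⊤ : Y.Opens)))
    (i : ℕ) (e : EulerLib.InvCl Y) :
    hh k G i (EulerLib.InvCl.mk P hP * e) ≤ hh k G i e + hh k (kernel (EulerLib.mulSec G b)) (i + 1) e +
        hh k (cokernel (EulerLib.mulSec G b)) i e ∧
    hh k G i e ≤ hh k G i (EulerLib.InvCl.mk P hP * e) + hh k (kernel (EulerLib.mulSec G b)) i e +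
        hh k (cokernel (EulerLib.mulSec G b)) (i - 1) e := by
  haveI := EulerLib.isNoetherian_of_proper (X := Y) k
  rw [← hh_tensor k hP i e]
  set φ := EulerLib.mulSec G b
  have hGP : Coh.IsCoh (CohB1.tensorMod G P) := EulerLib.isCoh_twist hP hG
  have cK : Coh.IsCoh (kernel φ) := isCoh_kernel _ hG hGP.1
  have cC : Coh.IsCoh (cokernel φ) := isCoh_cokernel _ hG.1 hGP
  let S₁ := ShortComplex.mk (kernel.ι φ) (Abelian.factorThruImage φ)
    (by rw [← cancel_mono (Abelian.image.ι φ), Category.assoc, Abelian.image.fac, kernel.condition, zero_comp])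
  have hS₁ : S₁.ShortExact :=
    { exact := ShortComplex.exact_of_f_is_kernel _
        (isKernelOfComp (f := Abelian.factorThruImage φ) (Abelian.image.ι φ) φ (kernelIsKernel φ) S₁.zero
          (Abelian.image.fac φ))
      mono_f := inferInstanceAs (Mono (kernel.ι φ))
      epi_g := inferInstanceAs (Epi (Abelian.factorThruImage φ)) }
  let S₂ := ShortComplex.mk (Abelian.image.ι φ) (cokernel.π φ) (kernel.condition (cokernel.π φ))
  have hS₂ : S₂.ShortExact :=
    { exact := ShortComplex.exact_of_f_is_kernel _ (kernelIsKernel (cokernel.π φ))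
      mono_f := inferInstanceAs (Mono (kernel.ι (cokernel.π φ)))
      epi_g := inferInstanceAs (Epi (cokernel.π φ)) }
  have cI : Coh.IsCoh (Abelian.image φ) := isCoh_kernel _ hGP cC.1
  have h1 := hh_right k hS₁ cK hG cI i e
  have h2 := (hh_triangle k hS₂ cI hGP cC i e).1
  have h3 := (hh_triangle k hS₁ cK hG cI i e).1
  have h4 := (hh_triangle k hS₂ cI hGP cC i e).2
  dsimp only [S₁, S₂] at h1 h2 h3 h4
  have h5 : (if i = 0 then 0 else hh k (cokernel φ) (i - 1) e) ≤ hh k (cokernel φ) (i - 1) e := by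
    split <;> omega
  constructor <;> omega

theorem bnd_le_bnd {a b : ℕ} (ha : 1 ≤ a) (hab : a ≤ b) (N : ℕ) : bnd a N ≤ bnd b N := by
  obtain ⟨a, rfl⟩ : ∃ a', a = a' + 1 := ⟨a - 1, by omega⟩
  obtain ⟨b, rfl⟩ : ∃ b', b = b' + 1 := ⟨b - 1, by omega⟩
  exact Nat.pow_le_pow_right (by omega) (by omega)

variable [Infinite k] [IsProper (X ↘ Spec (CommRingCat.of k))]

/-- Along a pullback `h^i(G ⊗ f^*L^m)` grows like the dimension of the image of the support. -/
theorem exists_bound_pullback (hproj : ∃ A : X.Modules, CohB1.IsAmple A) (f : Y ⟶ X) {L : X.Modules}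
    (hL : PicF.IsInvertible L) :
    ∀ d : ℕ, ∀ G : Y.Modules, Coh.IsCoh G →
      (∀ y ∈ CohB1.support G, DimLib.ptDim (X ↘ Spec (CommRingCat.of k)) (f y) < d) → ∀ i : ℕ,
      ∃ C : ℕ, ∀ m : ℕ,
        hh k G i (EulerLib.InvCl.mk _ (PicLoc.isInvertible_pullback f hL) ^ m) ≤ C * bnd d m := by
  haveI := EulerLib.isNoetherian_of_proper (X := Y) k
  haveI := EulerLib.isNoetherian_of_proper (X := X) k
  haveI : Y.IsSeparated := EulerLib.isSeparated_of_proper k
  set p := X ↘ Spec (CommRingCat.of k)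
  intro d
  induction d with
  | zero =>
    intro G _ hdim i
    refine ⟨0, fun m => ?_⟩
    have h0 : CohB1.support G = ∅ := Set.eq_empty_of_forall_notMem fun y hy => Nat.not_lt_zero _ (hdim y hy)
    haveI : Subsingleton (Coh.HH Y (twCl G (EulerLib.InvCl.mk _ (PicLoc.isInvertible_pullback f hL) ^ m)) i) :=
      EulerLib.subsingleton_HH_of_isZero
        (EulerLib.isZero_of_support_eq_empty ((EulerLib.support_twist (isInvertible_repCl _) G).trans h0)) i
    exact le_of_eq_of_le Module.finrank_zero_of_subsingleton (Nat.zero_le _)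
  | succ d ih =>
    intro G hG hdim i
    let S : Set X := f '' {a ∈ AssSch.Ass G | d ≤ DimLib.ptDim p (f a)}
    have hS : S.Finite := ((AssSch12.finite_ass G hG).subset fun a h => h.1).image _
    obtain ⟨P, Q, hP, hQ, hPQ, ⟨bP, hbP⟩, ⟨bQ, hbQ⟩⟩ :=
      exists_sections_diff k hproj (EulerLib.InvCl.mk L hL) hS
    rw [EulerLib.InvCl.mk_mul hL hQ] at hPQ
    obtain ⟨eLQ⟩ := nonempty_iso_of_mk_eq hPQ
    set ℓ := EulerLib.InvCl.mk _ (PicLoc.isInvertible_pullback f hL)
    have hP' := PicLoc.isInvertible_pullback f hP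
    have hQ' := PicLoc.isInvertible_pullback f hQ
    have hrel : ℓ * EulerLib.InvCl.mk _ hQ' = EulerLib.InvCl.mk _ hP' := by
      rw [EulerLib.InvCl.mk_mul]
      exact EulerLib.InvCl.mk_eq _ _ ((DCat.PullTensor.pullTensorIso f L Q).symm ≪≫
        (Scheme.Modules.pullback f).mapIso eLQ)
    have hsmall : ∀ (R : X.Modules) (hR : PicF.IsInvertible R) (b : Γ(R, (⊤ : X.Opens))),
        S ⊆ (glocus R b : Set X) → ∀ H : Y.Modules,
        CohB1.support H ⊆ CohB1.support G ∩ (glocus ((Scheme.Modules.pullback f).obj R) (pullSec f b) : Set Y)ᶜ →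
        ∀ y ∈ CohB1.support H, DimLib.ptDim p (f y) < d := by
      intro R hR b hb H hH y hy
      obtain ⟨hyG, hyb⟩ := hH hy
      rw [glocus_pullSec f hR b] at hyb
      obtain ⟨a, ha, hay⟩ := AssSch12.exists_ass_generalization G hG.1 hyG
      have h1 := hdim a (AssSch12.mem_support_of_ass G ha)
      by_cases hne : f a = f y
      · by_contra hle
        exact hyb (hb ⟨a, ⟨ha, hne ▸ (not_lt.1 hle)⟩, hne⟩)
      · have := DimLib.ptDim_lt_of_specializes p (hay.map f.continuous) hne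
        omega
    set φP := EulerLib.mulSec G (pullSec f bP)
    set φQ := EulerLib.mulSec G (pullSec f bQ)
    have cK : ∀ {R : Y.Modules} (hR : PicF.IsInvertible R) (φ : G ⟶ CohB1.tensorMod G R), Coh.IsCoh (kernel φ) :=
      fun hR φ => isCoh_kernel _ hG (EulerLib.isCoh_twist hR hG).1
    have cC : ∀ {R : Y.Modules} (hR : PicF.IsInvertible R) (φ : G ⟶ CohB1.tensorMod G R), Coh.IsCoh (cokernel φ) :=
      fun hR φ => isCoh_cokernel _ hG.1 (EulerLib.isCoh_twist hR hG)
    obtain ⟨α, hα⟩ := ih _ (cK hP' φP) (hsmall P hP bP hbP _ (support_kernel_mulSec G _)) (i + 1)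
    obtain ⟨β, hβ⟩ := ih _ (cC hP' φP) (hsmall P hP bP hbP _ (support_cokernel_mulSec hP' G _)) i
    obtain ⟨γ, hγ⟩ := ih _ (cK hQ' φQ) (hsmall Q hQ bQ hbQ _ (support_kernel_mulSec G _)) i
    obtain ⟨δ, hδ⟩ := ih _ (cC hQ' φQ) (hsmall Q hQ bQ hbQ _ (support_cokernel_mulSec hQ' G _)) (i - 1)
    have hstep : ∀ m : ℕ, hh k G i (ℓ ^ (m + 1)) ≤ hh k G i (ℓ ^ m) + (α + β + γ + δ) * bnd d (m + 1) := fun m => by
      have h1 := (hh_mulSec k hG hQ' (pullSec f bQ) i (ℓ ^ (m + 1))).2
      have h2 := (hh_mulSec k hG hP' (pullSec f bP) i (ℓ ^ m)).1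
      rw [pow_succ', ← mul_assoc, mul_comm _ ℓ, hrel] at h1
      have h3 := (hα m).trans (Nat.mul_le_mul_left _ (bnd_mono d (Nat.le_add_right m 1)))
      have h4 := (hβ m).trans (Nat.mul_le_mul_left _ (bnd_mono d (Nat.le_add_right m 1)))
      have h5 := hγ (m + 1)
      have h6 := hδ (m + 1)
      rw [pow_succ'] at h5 h6 ⊢
      simp only [φP, φQ] at h3 h4 h5 h6
      simp only [add_mul]
      omega
    refine ⟨hh k G i (ℓ ^ 0) + (α + β + γ + δ), fun m => ?_⟩
    generalize α + β + γ + δ = T at hstep ⊢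
    have hmain : ∀ m, hh k G i (ℓ ^ m) ≤ hh k G i (ℓ ^ 0) + m * (T * bnd d m) := by
      intro m
      induction m with
      | zero => omega
      | succ m ihm =>
        have h1 : m * (T * bnd d m) ≤ m * (T * bnd d (m + 1)) :=
          Nat.mul_le_mul_left _ (Nat.mul_le_mul_left _ (bnd_mono d (Nat.le_succ m)))
        have := hstep m
        rw [add_mul, one_mul]
        omega
    have h1 : 1 ≤ bnd (d + 1) m := Nat.one_le_pow _ _ (by omega)
    calc hh k G i (ℓ ^ m) ≤ hh k G i (ℓ ^ 0) + m * (T * bnd d m) := hmain m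
      _ ≤ hh k G i (ℓ ^ 0) * bnd (d + 1) m + T * bnd (d + 1) m := add_le_add (Nat.le_mul_of_pos_right _ h1)
          (by rw [mul_left_comm]; exact Nat.mul_le_mul_left _ (mul_bnd_le d m))
      _ = _ := (add_mul _ _ _).symm

theorem hhat_pullback_eq_zero (hproj : ∃ A : X.Modules, CohB1.IsAmple A) {n e : ℕ}
    (hn : topologicalKrullDim X = n) (hne : n < e) (f : Y ⟶ X) {L : X.Modules} (hL : PicF.IsInvertible L) (i : ℕ) :
    W4c5asymptcohfn.hhat k Y e i ((Scheme.Modules.pullback f).obj L) = 0 := by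
  haveI := EulerLib.isNoetherian_of_proper (X := Y) k
  rw [hhat_eq k e i _ (PicLoc.isInvertible_pullback f hL)]
  obtain ⟨C, hC⟩ := exists_bound_pullback k hproj f hL (n + 1) _ (isCoh_structureModule Y) (fun y _ => by
    rw [DimLib.topologicalKrullDim_eq_iSup (X ↘ Spec (CommRingCat.of k))] at hn
    have h := le_of_le_of_eq
      (le_iSup (fun x => (DimLib.ptDim (X ↘ Spec (CommRingCat.of k)) x : WithBot ℕ∞)) (f y)) hn
    exact Nat.lt_succ_of_le (by exact_mod_cast h)) i
  refine Tendsto.limsup_eq (squeeze_zero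
    (g := fun m : ℕ => (C : ℝ) * e.factorial * (((bnd e (m * 1) : ℕ) : ℝ) / (m : ℝ) ^ e))
    (hseq_nonneg k e i _ _) (fun m => ?_) ?_)
  · rw [hseq, mul_div_assoc', mul_right_comm (C : ℝ), mul_one]
    refine div_le_div_of_nonneg_right (mul_le_mul_of_nonneg_right ?_ (Nat.cast_nonneg _))
      (pow_nonneg (Nat.cast_nonneg _) _)
    exact_mod_cast (hC m).trans (Nat.mul_le_mul_left _ (bnd_le_bnd (by omega) (by omega) m))
  · simpa using (tendsto_bnd_div e 1).const_mul ((C : ℝ) * e.factorial)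

end Groth.Agent.H0Growth23

end
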