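import Groth.Agent.H0Growth23.Small

/-!
# Asymptotic cohomology above the dimension of the stable base locus
-/

set_option autoImplicit false
set_option linter.style.haveILetI false
set_option backward.isDefEq.respectTransparency.types false

universe u

open CategoryTheory CategoryTheory.Limits AlgebraicGeometry TopologicalSpace Filter
open Groth.Agent.Coherent Groth.Agent.PicLib Groth.Agent.AmpleLib
open scoped Topology

noncomputable section

namespace Groth.Agent.H0Growth23

variable {X : Scheme.{u}} (k : Type u) [Field k] [X.Over (Spec (CommRingCat.of k))]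

include k in
/-- Over an infinite field: if at each of finitely many points some section generates, one section generates at
all of them. -/
theorem exists_glocus_of_forall [Infinite k] {N : X.Modules} (hN : PicF.IsInvertible N)
    {S : Set X} (hS : S.Finite) (h : ∀ x ∈ S, ∃ b : Γ(N, (⊤ : X.Opens)), x ∈ glocus N b) :
    ∃ b : Γ(N, (⊤ : X.Opens)), S ⊆ (glocus N b : Set X) := by
  haveI := hS.to_subtype
  letI : Module k Γ(N, (⊤ : X.Opens)) := Module.compHom Γ(N, (⊤ : X.Opens)) (baseHom k X)
  let p : S → Submodule k Γ(N, (⊤ : X.Opens)) := fun x =>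
    { carrier := {s | N.presheaf.germ ⊤ x.1 trivial s ∈
        (IsLocalRing.maximalIdeal (X.presheaf.stalk x.1) •
          (⊤ : Submodule (X.presheaf.stalk x.1) (N.presheaf.stalk x.1)))}
      add_mem' := fun {a b} ha hb => by
        rw [Set.mem_ofPred_eq, map_add]; exact add_mem ha hb
      zero_mem' := by
        rw [Set.mem_ofPred_eq, map_zero]; exact zero_mem _
      smul_mem' := fun c a ha => by
        show N.presheaf.germ ⊤ x.1 trivial (baseHom k X c • a) ∈
          (IsLocalRing.maximalIdeal (X.presheaf.stalk x.1) •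
            (⊤ : Submodule (X.presheaf.stalk x.1) (N.presheaf.stalk x.1)))
        rw [QCohLoc.germ_smul']
        exact Submodule.smul_mem _ _ ha }
  have hp : ∀ x, p x ≠ ⊤ := fun x htop => by
    obtain ⟨b, hb⟩ := h x.1 x.2
    exact (CurveRR24.mem_glocus_iff_germ hN b x.1).1 hb (Submodule.eq_top_iff'.1 htop b)
  obtain ⟨s, hs⟩ := Submodule.exists_forall_notMem_of_forall_ne_top p hp
  exact ⟨s, fun x hx => (CurveRR24.mem_glocus_iff_germ hN _ x).2 (hs ⟨x, hx⟩)⟩

omit [X.Over (Spec (CommRingCat.of k))] in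
theorem isClosed_stableBaseLocus (L : X.Modules) : IsClosed (W4c5asymptcohfn.stableBaseLocus X L) := by
  refine isClosed_iInter fun m => ?_
  rw [show W4c5asymptcohfn.baseLocus X (CohB1.tensorPow L (m + 1)) =
      ⋂ s : Coh.structureModule X ⟶ CohB1.tensorPow L (m + 1),
        (CohB1.genLocus (CohB1.tensorPow L (m + 1)) s : Set X)ᶜ from
    Set.ext fun x => ⟨fun h => Set.mem_iInter.2 h, fun h => Set.mem_iInter.1 h⟩]
  exact isClosed_iInter fun s => (CohB1.genLocus _ s).2.isClosed_compl

omit [X.Over (Spec (CommRingCat.of k))] in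
theorem exists_glocus_of_notMem {L : X.Modules} {x : X} (hx : x ∉ W4c5asymptcohfn.stableBaseLocus X L) :
    ∃ (m : ℕ) (b : Γ(CohB1.tensorPow L (m + 1), (⊤ : X.Opens))), x ∈ glocus _ b := by
  obtain ⟨m, hm⟩ : ∃ m, x ∉ W4c5asymptcohfn.baseLocus X (CohB1.tensorPow L (m + 1)) := by
    by_contra hne
    push Not at hne
    exact hx (Set.mem_iInter.2 hne)
  obtain ⟨s, hs⟩ : ∃ s, x ∈ CohB1.genLocus (CohB1.tensorPow L (m + 1)) s := by
    by_contra hne
    push Not at hne
    exact hm hne
  exact ⟨m, _, genLocus_eq_glocus s ▸ hs⟩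

variable [IsProper (X ↘ Spec (CommRingCat.of k))] [Infinite k]

/-- `h^i(G ⊗ L^m)` grows slower than the dimension of the support suggests, above the stable base locus. -/
theorem exists_bound_stable {L : X.Modules} (hL : PicF.IsInvertible L) {d : ℕ}
    (hd : topologicalKrullDim ↥(W4c5asymptcohfn.stableBaseLocus X L) ≤ (d : WithBot ℕ∞)) :
    ∀ j : ℕ, ∀ G : X.Modules, Coh.IsCoh G →
      topologicalKrullDim (CohB1.support G) < ((d + 1 + j : ℕ) : WithBot ℕ∞) → ∀ i : ℕ, d < i →
      ∃ C : ℕ, ∀ m : ℕ, hh k G i (EulerLib.InvCl.mk L hL ^ m) ≤ C * bnd j m := by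
  haveI := EulerLib.isNoetherian_of_proper (X := X) k
  haveI : X.IsSeparated := EulerLib.isSeparated_of_proper k
  intro j
  induction j with
  | zero =>
    intro G hG hdim i hi
    refine ⟨0, fun m => ?_⟩
    have hcl : IsClosed (CohB1.support G) := isClosed_support G (locallyFinGen_of_isFT G hG.2)
    haveI : Subsingleton (Coh.HH X (twCl G (EulerLib.InvCl.mk L hL ^ m)) i) :=
      EulerLib.subsingleton_HH_of_support ⟨_, hcl⟩ _ (isCoh_twCl k hG _).1
        (EulerLib.support_twist (isInvertible_repCl _) G).le i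
        (lt_of_lt_of_le hdim (by exact_mod_cast (show d + 1 + 0 ≤ i by omega)))
    exact le_of_eq_of_le Module.finrank_zero_of_subsingleton (Nat.zero_le _)
  | succ j ih =>
    intro G hG hdim i hi
    let p := X ↘ Spec (CommRingCat.of k)
    have hcl : IsClosed (CohB1.support G) := isClosed_support G (locallyFinGen_of_isFT G hG.2)
    -- the associated points of top dimension avoid the base locus
    let S : Set X := {a ∈ AssSch.Ass G | d + 1 + j ≤ DimLib.ptDim p a}
    have hS : S.Finite := (AssSch12.finite_ass G hG).subset fun a h => h.1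
    have hSB : ∀ a ∈ S, a ∉ W4c5asymptcohfn.stableBaseLocus X L := fun a ha haB => by
      rw [DimLib.topologicalKrullDim_closed_eq_iSup p (isClosed_stableBaseLocus L)] at hd
      have : DimLib.ptDim p a ≤ d := by
        exact_mod_cast le_trans (le_iSup (fun x : W4c5asymptcohfn.stableBaseLocus X L =>
          (DimLib.ptDim p x.1 : WithBot ℕ∞)) ⟨a, haB⟩) hd
      have := ha.2
      omega
    choose m hm using fun a : S => exists_glocus_of_notMem (hSB a.1 a.2)
    choose b₀ hb₀ using hm
    haveI := hS.fintype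
    obtain ⟨N, hN0, hN⟩ : ∃ N : ℕ, 0 < N ∧ ∀ a : S, ∃ c, N = (m a + 1) * c ∧ 0 < c := by
      refine ⟨∏ a : S, (m a + 1), Finset.prod_pos fun a _ => Nat.succ_pos _, fun a => ?_⟩
      obtain ⟨c, hc⟩ := Finset.dvd_prod_of_mem (fun a : S => m a + 1) (Finset.mem_univ a)
      refine ⟨c, hc, Nat.pos_of_ne_zero fun h => ?_⟩
      have := Finset.prod_pos (s := Finset.univ) fun (a : S) _ => Nat.succ_pos (m a)
      rw [h, mul_zero] at hc
      exact this.ne' hc
    have hP := isInvertible_tensorPow hL N
    obtain ⟨b, hb⟩ := exists_glocus_of_forall k hP hS fun a ha => by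
      obtain ⟨c, rfl, hc⟩ := hN ⟨a, ha⟩
      obtain ⟨b', hb'⟩ := exists_glocus_pow hL _ (b₀ ⟨a, ha⟩) c hc
      exact ⟨b', hb'.ge (hb₀ ⟨a, ha⟩)⟩
    let φ := EulerLib.mulSec G b
    have hGP : Coh.IsCoh (CohB1.tensorMod G (CohB1.tensorPow L N)) := EulerLib.isCoh_twist hP hG
    let T : Set X := CohB1.support G ∩ (glocus _ b : Set X)ᶜ
    have hT : IsClosed T := hcl.inter (glocus _ b).2.isClosed_compl
    have hTdim : topologicalKrullDim T < ((d + 1 + j : ℕ) : WithBot ℕ∞) := by
      rw [DimLib.topologicalKrullDim_closed_eq_iSup p hT]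
      rw [DimLib.topologicalKrullDim_closed_eq_iSup p hcl] at hdim
      refine lt_of_le_of_lt (iSup_le fun x => ?_) (show ((d + j : ℕ) : WithBot ℕ∞) < ((d + 1 + j : ℕ) : WithBot ℕ∞) by
        exact_mod_cast (show d + j < d + 1 + j by omega))
      obtain ⟨a, ha, hax⟩ := AssSch12.exists_ass_generalization G hG.1 x.2.1
      have h2 : DimLib.ptDim p a < d + 1 + (j + 1) := by
        exact_mod_cast lt_of_le_of_lt (le_iSup (fun x : CohB1.support G => (DimLib.ptDim p x.1 : WithBot ℕ∞))
          ⟨a, AssSch12.mem_support_of_ass G ha⟩) hdim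
      have h3 : DimLib.ptDim p x.1 ≤ d + j := by
        by_cases hne : a = x.1
        · have : ¬d + 1 + j ≤ DimLib.ptDim p a := fun h => x.2.2 (hne ▸ hb ⟨ha, h⟩)
          rw [← hne]
          omega
        · have := DimLib.ptDim_lt_of_specializes p hax hne
          omega
      exact_mod_cast h3
    have hsub : ∀ H : X.Modules, CohB1.support H ⊆ T →
        topologicalKrullDim (CohB1.support H) < ((d + 1 + j : ℕ) : WithBot ℕ∞) := fun H hH =>
      lt_of_le_of_lt ((Topology.IsInducing.of_comp (continuous_inclusion hH) continuous_subtype_val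
        (g := (Subtype.val : T → X)) Topology.IsInducing.subtypeVal).topologicalKrullDim_le) hTdim
    have hK : CohB1.support (kernel φ) ⊆ T := fun z hz => by
      refine ⟨Coherent.support_subset_of_mono (kernel.ι φ) hz, fun hg => hz (subsingleton_of_forall_eq 0 fun a => ?_)⟩
      refine (ModuleCat.mono_iff_injective ((DerSch.stalkFunctor X z).map (kernel.ι φ))).1 inferInstance ?_
      refine (EulerLib.bijective_stalk_mulSec G b hg).1 ?_
      rw [← ConcreteCategory.comp_apply, ← Functor.map_comp, kernel.condition, Functor.map_zero]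
      erw [map_zero, map_zero]
      rfl
    have hC : CohB1.support (cokernel φ) ⊆ T := support_cokernel_mulSec hP G b
    have cK : Coh.IsCoh (kernel φ) := isCoh_kernel _ hG hGP.1
    have cC : Coh.IsCoh (cokernel φ) := isCoh_cokernel _ hG.1 hGP
    obtain ⟨α, hα⟩ := ih _ cK (hsub _ hK) (i + 1) (by omega)
    obtain ⟨γ, hγ⟩ := ih _ cC (hsub _ hC) i hi
    set ℓ := EulerLib.InvCl.mk L hL
    have hstep : ∀ e : ℕ, hh k G i (ℓ ^ (e + N)) ≤ hh k G i (ℓ ^ e) + (α + γ) * bnd j e := fun e => by
      let S₁ := ShortComplex.mk (kernel.ι φ) (Abelian.factorThruImage φ)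
        (by rw [← cancel_mono (Abelian.image.ι φ), Category.assoc, Abelian.image.fac, kernel.condition, zero_comp])
      have hS₁ : S₁.ShortExact :=
        { exact := ShortComplex.exact_of_f_is_kernel _
            (isKernelOfComp (f := Abelian.factorThruImage φ) (Abelian.image.ι φ) φ (kernelIsKernel φ) S₁.zero
              (Abelian.image.fac φ))
          mono_f := inferInstanceAs (Mono (kernel.ι φ))
          epi_g := inferInstanceAs (Epi (Abelian.factorThruImage φ)) }
      let S₂ := ShortComplex.mk (Abelian.image.ι φ) (cokernel.π φ) (kernel.condition (cokernel.π φ))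
      have hS₂ : S₂.ShortExact :=
        { exact := ShortComplex.exact_of_f_is_kernel _ (kernelIsKernel (cokernel.π φ))
          mono_f := inferInstanceAs (Mono (kernel.ι (cokernel.π φ)))
          epi_g := inferInstanceAs (Epi (cokernel.π φ)) }
      have cI : Coh.IsCoh (Abelian.image φ) := isCoh_kernel _ hGP cC.1
      have h1 := hh_right k hS₁ cK hG cI i (ℓ ^ e)
      have h2 := (hh_triangle k hS₂ cI hGP cC i (ℓ ^ e)).1
      dsimp only [S₁, S₂] at h1 h2
      have h3 : hh k (CohB1.tensorMod G (CohB1.tensorPow L N)) i (ℓ ^ e) = hh k G i (ℓ ^ (e + N)) := by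
        obtain ⟨e₁⟩ := nonempty_twCl G _ hP
        obtain ⟨e₂⟩ := nonempty_twCl_mul G (EulerLib.InvCl.mk _ hP) (ℓ ^ e)
        rw [add_comm, pow_add, ← EulerLib.InvCl.mk_tensorPow hL N]
        exact CurveRR24.finrank_HH_congr k (Coherent.tensorIso e₁.symm (Iso.refl _) ≪≫ e₂) i
      have h4 := hα e
      have h5 := hγ e
      rw [add_mul]
      omega
    refine ⟨∑ t ∈ Finset.range N, hh k G i (ℓ ^ t) + (α + γ), fun e => ?_⟩
    set M := ∑ t ∈ Finset.range N, hh k G i (ℓ ^ t)
    have hmain : ∀ e, hh k G i (ℓ ^ e) ≤ M + e * ((α + γ) * bnd j e) := by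
      intro e
      induction e using Nat.strong_induction_on with
      | _ e ihe =>
        rcases lt_or_ge e N with h | h
        · exact le_trans (Finset.single_le_sum (f := fun t => hh k G i (ℓ ^ t)) (fun _ _ => Nat.zero_le _)
            (Finset.mem_range.2 h)) (Nat.le_add_right _ _)
        · obtain ⟨e, rfl⟩ := Nat.exists_eq_add_of_le' h
          refine (hstep e).trans ?_
          have h1 := ihe e (by omega)
          have h2 : (α + γ) * bnd j e ≤ (α + γ) * bnd j (e + N) :=
            Nat.mul_le_mul_left _ (bnd_mono j (by omega))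
          have h3 : (e + 1) * ((α + γ) * bnd j (e + N)) ≤ (e + N) * ((α + γ) * bnd j (e + N)) :=
            Nat.mul_le_mul_right _ (by omega)
          have h4 : e * ((α + γ) * bnd j e) ≤ e * ((α + γ) * bnd j (e + N)) := Nat.mul_le_mul_left _ h2
          rw [add_mul, one_mul] at h3
          omega
    have h1 : 1 ≤ bnd (j + 1) e := Nat.one_le_pow _ _ (by omega)
    calc hh k G i (ℓ ^ e) ≤ M + e * ((α + γ) * bnd j e) := hmain e
      _ ≤ M * bnd (j + 1) e + (α + γ) * bnd (j + 1) e := add_le_add (Nat.le_mul_of_pos_right _ h1)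
          (by rw [mul_left_comm]; exact Nat.mul_le_mul_left _ (mul_bnd_le j e))
      _ = _ := (add_mul _ _ _).symm

theorem hhat_eq_zero_of_stable {n : ℕ} (hn : topologicalKrullDim X = n) {L : X.Modules} (hL : PicF.IsInvertible L)
    {d : ℕ} (hd : topologicalKrullDim ↥(W4c5asymptcohfn.stableBaseLocus X L) ≤ (d : WithBot ℕ∞)) {i : ℕ}
    (hi : d < i) : W4c5asymptcohfn.hhat k X n i L = 0 := by
  haveI := EulerLib.isNoetherian_of_proper (X := X) k
  rw [hhat_eq k n i L hL]
  obtain ⟨C, hC⟩ := exists_bound_stable k hL hd n _ (isCoh_structureModule X)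
    (lt_of_le_of_lt ((Topology.IsInducing.subtypeVal.topologicalKrullDim_le).trans hn.le)
      (by exact_mod_cast (show n < d + 1 + n by omega))) i hi
  refine Tendsto.limsup_eq (squeeze_zero
    (g := fun m : ℕ => (C : ℝ) * n.factorial * (((bnd n (m * 1) : ℕ) : ℝ) / (m : ℝ) ^ n))
    (hseq_nonneg k n i _ _) (fun m => ?_) ?_)
  · rw [hseq, mul_div_assoc', mul_right_comm (C : ℝ), mul_one]
    exact div_le_div_of_nonneg_right (mul_le_mul_of_nonneg_right (by exact_mod_cast hC m) (Nat.cast_nonneg _))
      (pow_nonneg (Nat.cast_nonneg _) _)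
  · simpa using (tendsto_bnd_div n 1).const_mul ((C : ℝ) * n.factorial)

end Groth.Agent.H0Growth23

end
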