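import Groth.Agent.H0Growth23.Asymp
import Groth.Agent.VarietyLib.Dual
import Groth.Agent.EulerLib.InvClass

/-!
# Integral combinations of invertible modules as classes, and their asymptotic functions
-/

set_option autoImplicit false
set_option linter.style.haveILetI false
set_option backward.isDefEq.respectTransparency.types false

universe u

open CategoryTheory CategoryTheory.Limits AlgebraicGeometry Filter
open Groth.Agent.Coherent Groth.Agent.AmpleLib
open scoped Topology

noncomputable section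

namespace Groth.Agent.H0Growth23

variable {X : Scheme.{u}}

theorem isInvertible_of_isInverseOf {L M : X.Modules} (hL : PicF.IsInvertible L) (h : ClSub.IsInverseOf L M) :
    PicF.IsInvertible M := by
  obtain ⟨e⟩ := h
  exact PicLib.PicM.isInvertible_of_tensor hL (glocus_isInvertible_of_iso e.symm isInvertible_structureModule)

/-- The unit of the class monoid defined by an invertible module. -/
theorem exists_unit {L M : X.Modules} (hL : PicF.IsInvertible L) (h : ClSub.IsInverseOf L M) :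
    ∃ u : (EulerLib.InvCl X)ˣ, (u : EulerLib.InvCl X) = EulerLib.InvCl.mk L hL ∧
      ((u⁻¹ : (EulerLib.InvCl X)ˣ) : EulerLib.InvCl X) = EulerLib.InvCl.mk M (isInvertible_of_isInverseOf hL h) := by
  obtain ⟨e⟩ := h
  have he : EulerLib.InvCl.mk L hL * EulerLib.InvCl.mk M (isInvertible_of_isInverseOf hL ⟨e⟩) = 1 :=
    EulerLib.InvCl.mk_eq _ _ e
  exact ⟨Units.mkOfMulEqOne _ _ he, rfl, rfl⟩

theorem exists_mk_multiTwist {r : ℕ} (L : Fin r → X.Modules) (hL : ∀ j, PicF.IsInvertible (L j)) (n : Fin r → ℕ) :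
    ∃ h : PicF.IsInvertible (FGA.multiTwist L n),
      EulerLib.InvCl.mk _ h = ∏ j, EulerLib.InvCl.mk (L j) (hL j) ^ n j := by
  obtain ⟨hN, hc⟩ := EulerLib.exists_tensorList_rep ((List.finRange r).map fun j =>
    (⟨CohB1.tensorPow (L j) (n j), isInvertible_tensorPow (hL j) (n j)⟩ : EulerLib.Inv X))
  have he : ((List.finRange r).map fun j =>
      (⟨CohB1.tensorPow (L j) (n j), isInvertible_tensorPow (hL j) (n j)⟩ : EulerLib.Inv X)).map Subtype.val =
      (List.finRange r).map fun j => CohB1.tensorPow (L j) (n j) := by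
    rw [List.map_map]; rfl
  have hN' : PicF.IsInvertible (FGA.multiTwist L n) := by
    show PicF.IsInvertible (FGA.tensorList _)
    rw [← he]; exact hN
  refine ⟨hN', ?_⟩
  have h1 : EulerLib.InvCl.mk _ hN' = EulerLib.InvCl.mk _ hN :=
    EulerLib.InvCl.mk_eq _ _ (eqToIso (congrArg FGA.tensorList he.symm))
  rw [h1, hc, List.map_map, Fin.prod_univ_def]
  refine congrArg List.prod (List.map_congr_left fun j _ => ?_)
  exact EulerLib.InvCl.mk_tensorPow (hL j) (n j)

theorem exists_mk_ztwist {r : ℕ} (L M : Fin r → X.Modules) (hL : ∀ j, PicF.IsInvertible (L j))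
    (hM : ∀ j, ClSub.IsInverseOf (L j) (M j)) :
    ∃ u : Fin r → (EulerLib.InvCl X)ˣ, ∀ a : Fin r → ℤ,
      ∃ h : PicF.IsInvertible (W4c5asymptcohfn.ztwist X L M a), EulerLib.InvCl.mk _ h = zcl u a := by
  choose u hu hu' using fun j => exists_unit (hL j) (hM j)
  refine ⟨u, fun a => ?_⟩
  obtain ⟨h₁, e₁⟩ := exists_mk_multiTwist L hL fun j => (a j).toNat
  obtain ⟨h₂, e₂⟩ := exists_mk_multiTwist M (fun j => isInvertible_of_isInverseOf (hL j) (hM j))
    fun j => (-(a j)).toNat
  refine ⟨isInvertible_tensorMod h₁ h₂, ?_⟩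
  show EulerLib.InvCl.mk (CohB1.tensorMod _ _) _ = _
  rw [← EulerLib.InvCl.mk_mul h₁ h₂, e₁, e₂, ← Finset.prod_mul_distrib, zcl, Units.coe_prod]
  refine Finset.prod_congr rfl fun j _ => ?_
  rw [← hu j, ← hu' j, ← Units.val_pow_eq_pow_val, ← Units.val_pow_eq_pow_val, ← Units.val_mul]
  congr 1
  rw [← zpow_natCast, ← zpow_natCast, inv_zpow', ← zpow_add]
  congr 1
  omega

variable (k : Type u) [Field k] [X.Over (Spec (CommRingCat.of k))] [IsProper (X ↘ Spec (CommRingCat.of k))]
  [IsIntegral X]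

theorem dim_support_lt {n : ℕ} (hn : topologicalKrullDim X = n) :
    topologicalKrullDim (CohB1.support (Coh.structureModule X)) < ((n + 1 : ℕ) : WithBot ℕ∞) :=
  lt_of_le_of_lt ((Topology.IsInducing.subtypeVal.topologicalKrullDim_le).trans hn.le)
    (by exact_mod_cast Nat.lt_succ_self n)

variable [Infinite k]

include k in
/-- The bounds on `ĥ^i` along a finitely generated group of classes. -/
theorem exists_hhat_bounds (hproj : ∃ A : X.Modules, CohB1.IsAmple A) {n : ℕ} (hn : topologicalKrullDim X = n)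
    {r : ℕ} (L M : Fin r → X.Modules) (hL : ∀ j, PicF.IsInvertible (L j))
    (hM : ∀ j, ClSub.IsInverseOf (L j) (M j)) (i : ℕ) :
    ∃ C : ℝ, 0 ≤ C ∧
      (∀ a, W4c5asymptcohfn.hhat k X n i (W4c5asymptcohfn.ztwist X L M a) ≤ C * (len a : ℝ) ^ n) ∧
      ∀ a b, |W4c5asymptcohfn.hhat k X n i (W4c5asymptcohfn.ztwist X L M a) -
          W4c5asymptcohfn.hhat k X n i (W4c5asymptcohfn.ztwist X L M b)| ≤
        C * (len (b - a) : ℝ) * bndR n ((len a + len (b - a) : ℕ) : ℝ) := by
  haveI := EulerLib.isNoetherian_of_proper (X := X) k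
  obtain ⟨u, hu⟩ := exists_mk_ztwist L M hL hM
  have he : ∀ a, W4c5asymptcohfn.hhat k X n i (W4c5asymptcohfn.ztwist X L M a) =
      limsup (hseq k n i (Coh.structureModule X) (zcl u a)) atTop := fun a => by
    obtain ⟨h, hc⟩ := hu a
    rw [hhat_eq k n i _ h, hc]
  obtain ⟨⟨C₁, h₁, hC₁⟩, C₂, h₂, hC₂⟩ :=
    exists_asymp_bounds k u hproj (Coherent.isCoh_structureModule X) (dim_support_lt hn) i
  refine ⟨C₁ + C₂, add_nonneg h₁ h₂, fun a => ?_, fun a b => ?_⟩
  · rw [he]
    exact (hC₁ a).2.trans (mul_le_mul_of_nonneg_right (le_add_of_nonneg_right h₂) (by positivity))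
  · rw [he, he]
    exact (hC₂ a b).trans (mul_le_mul_of_nonneg_right (mul_le_mul_of_nonneg_right (le_add_of_nonneg_left h₁)
      (Nat.cast_nonneg _)) (bndR_nonneg n (Nat.cast_nonneg _)))

end Groth.Agent.H0Growth23

end
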