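import Groth.Agent.H0Growth23.Small
import Groth.Agent.H0Growth23.Pullback
import Groth.Agent.VarietyLib.Nakai

/-!
# Asymptotic cohomology of a coherent module is governed by its generic rank
-/

set_option autoImplicit false
set_option linter.style.haveILetI false
set_option linter.unusedSectionVars false
set_option backward.isDefEq.respectTransparency.types false

universe u

open CategoryTheory CategoryTheory.Limits AlgebraicGeometry TopologicalSpace Opposite Filter
open Groth.Agent.Coherent Groth.Agent.PicLib Groth.Agent.AmpleLib Groth.Agent.EulerLib Groth.Agent.AssSch12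
open Groth.Agent.ModStalk Groth.Agent.VarietyLib

noncomputable section

namespace Groth.Agent.H0Growth23

variable {X : Scheme.{u}} (k : Type u) [Field k] [X.Over (Spec (CommRingCat.of k))]
  [IsProper (X ↘ Spec (CommRingCat.of k))]

theorem finrank_of_split {K P Q R : Type u} [Field K] [AddCommGroup P] [Module K P] [AddCommGroup Q] [Module K Q]
    [AddCommGroup R] [Module K R] [Module.Finite K Q] (f : P →ₗ[K] Q) (g : Q →ₗ[K] R) (h : Function.Exact f g)
    (hf : Function.Injective f) (hg : Function.Surjective g) :
    Module.finrank K Q = Module.finrank K P + Module.finrank K R := by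
  have e1 := g.finrank_range_add_finrank_ker
  rw [LinearMap.exact_iff.1 h, LinearMap.finrank_range_of_inj hf, LinearMap.range_eq_top.2 hg, finrank_top] at e1
  omega

/-- Cohomology is additive on split sequences. -/
theorem hh_split {S : ShortComplex X.Modules} (s : S.Splitting) (h1 : Coh.IsCoh S.X₁) (h2 : Coh.IsCoh S.X₂)
    (h3 : Coh.IsCoh S.X₃) (i : ℕ) (c : InvCl X) : hh k S.X₂ i c = hh k S.X₁ i c + hh k S.X₃ i c := by
  haveI := EulerLib.isNoetherian_of_proper (X := X) k
  have hT : (twistSeq S (repCl c)).ShortExact := twistSeq_shortExact (isInvertible_repCl c) s.shortExact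
  unfold hh twCl
  show LESBound.hdim k (twistSeq S (repCl c)).X₂ i =
    LESBound.hdim k (twistSeq S (repCl c)).X₁ i + LESBound.hdim k (twistSeq S (repCl c)).X₃ i
  haveI := finCoh_of_isProper (X ↘ Spec (CommRingCat.of k)) (twistSeq S (repCl c)).X₁ (isCoh_twCl k h1 c) i
  haveI := finCoh_of_isProper (X ↘ Spec (CommRingCat.of k)) (twistSeq S (repCl c)).X₂ (isCoh_twCl k h2 c) i
  haveI := finCoh_of_isProper (X ↘ Spec (CommRingCat.of k)) (twistSeq S (repCl c)).X₃ (isCoh_twCl k h3 c) i
  simp only [LESBound.hdim_eq]
  let f := postA (baseHom k X) (twistSeq S (repCl c)).f ⊤ i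
  let g := postA (baseHom k X) (twistSeq S (repCl c)).g ⊤ i
  have hid : ∀ M : X.Modules, tensorMap (𝟙 M) (𝟙 (repCl c)) = 𝟙 (CohB1.tensorMod M (repCl c)) := fun M =>
    hom_ext fun U a b => by rw [tensorMap_tmul]; rfl
  have hf : Function.LeftInverse (postA (baseHom k X) (tensorMap s.r (𝟙 (repCl c))) ⊤ i) f := fun x => by
    refine (postA_comp _ _ _ i x).symm.trans ?_
    show postA _ (tensorMap S.f (𝟙 (repCl c)) ≫ tensorMap s.r (𝟙 (repCl c))) ⊤ i x = x
    rw [← tensorMap_comp, s.f_r, hid]
    exact postA_id _ i x
  have hg : Function.RightInverse (postA (baseHom k X) (tensorMap s.s (𝟙 (repCl c))) ⊤ i) g := fun x => by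
    refine (postA_comp _ _ _ i x).symm.trans ?_
    show postA _ (tensorMap s.s (𝟙 (repCl c)) ≫ tensorMap S.g (𝟙 (repCl c))) ⊤ i x = x
    rw [← tensorMap_comp, s.s_g, hid]
    exact postA_id _ i x
  exact finrank_of_split f g (exact_postA (baseHom k X) hT ⊤ i) hf.injective hg.surjective

variable [IsIntegral X]

include k in
theorem dim_lt_of_notMem_generic {n : ℕ} (hn : topologicalKrullDim X = n) {M : X.Modules} (hM : Coh.IsCoh M)
    (h : genericPoint X ∉ CohB1.support M) :
    topologicalKrullDim (CohB1.support M) < (n : WithBot ℕ∞) :=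
  dim_lt_of_notMem (isClosed_support M (locallyFinGen_of_isFT M hM.2)) (Set.subset_univ _) isClosed_univ
    (genericPoint_spec X) h ((Topology.IsInducing.subtypeVal.topologicalKrullDim_le).trans hn.le)

include k in
/-- Sums of copies of the structure sheaf. -/
theorem exists_sum_copies (r : ℕ) : ∃ G : X.Modules, Coh.IsCoh G ∧
    Nonempty ((DerSch.stalkFunctor X (genericPoint X)).obj G ≃ₗ[X.presheaf.stalk (genericPoint X)]
      (Fin r → X.presheaf.stalk (genericPoint X))) ∧
    ∀ i c, hh k G i c = r * hh k (Coh.structureModule X) i c := by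
  haveI := EulerLib.isNoetherian_of_proper (X := X) k
  let R := X.presheaf.stalk (genericPoint X)
  let St := DerSch.stalkFunctor X (genericPoint X)
  induction r with
  | zero =>
    refine ⟨cokernel (𝟙 (Coh.structureModule X)), isCoh_cokernel _ (isCoh_structureModule X).1 (isCoh_structureModule X), ?_,
      fun i c => ?_⟩
    · haveI : Subsingleton (St.obj (cokernel (𝟙 (Coh.structureModule X)))) :=
        ModuleCat.subsingleton_of_isZero (St.map_isZero (isZero_cokernel_of_epi _))
      exact ⟨LinearEquiv.ofSubsingleton _ _⟩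
    · haveI : Subsingleton (Coh.HH X (twCl (cokernel (𝟙 (Coh.structureModule X))) c) i) :=
        subsingleton_HH_of_isZero (isZero_of_support_eq_empty ((support_twist (isInvertible_repCl c) _).trans
          (Set.eq_empty_of_forall_notMem fun y hy => hy (ModuleCat.subsingleton_of_isZero
            ((DerSch.stalkFunctor X y).map_isZero (isZero_cokernel_of_epi _)))))) i
      rw [Nat.zero_mul]
      exact Module.finrank_zero_of_subsingleton
  | succ r ih =>
    obtain ⟨G, hG, ⟨e⟩, hh'⟩ := ih
    let O := Coh.structureModule X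
    let sp := ShortComplex.Splitting.ofHasBinaryBiproduct O G
    have hGO : Coh.IsCoh (O ⊞ G) := isCoh_X₂ sp.shortExact (isCoh_structureModule X) hG
    refine ⟨O ⊞ G, hGO, ?_, fun i c => ?_⟩
    · obtain ⟨W, hηW, g, hg⟩ := exists_isGen (isInvertible_structureModule (X := X)) (genericPoint X)
      have e1 : St.obj O ≃ₗ[R] R := (LinearEquiv.ofBijective (LinearMap.toSpanSingleton R _ (O.presheaf.germ W _ hηW g))
        (EmbLib24.bijective_smul_germ hg hηW)).symm
      haveI : PreservesBinaryBiproduct O G St := preservesBinaryBiproduct_of_preservesBinaryProduct St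
      let e2 : St.obj (O ⊞ G) ≃ₗ[R] (St.obj O × St.obj G) :=
        (St.mapBiprod O G ≪≫ ModuleCat.biprodIsoProd _ _).toLinearEquiv
      exact ⟨e2.trans ((LinearEquiv.prodCongr e1 e).trans (Fin.consLinearEquiv R (fun _ => R)))⟩
    · rw [hh_split k sp (isCoh_structureModule X) hGO hG i c, hh', Nat.succ_mul, Nat.add_comm]

variable [Infinite k]

/-- A morphism bijective at the generic point preserves the asymptotic cohomology. -/
theorem hhatF_eq_of_bijective (hproj : ∃ A : X.Modules, CohB1.IsAmple A) {n : ℕ}
    (hn : topologicalKrullDim X = n) {F G : X.Modules} (hF : Coh.IsCoh F) (hG : Coh.IsCoh G) (φ : F ⟶ G)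
    (hφ : Function.Bijective ((DerSch.stalkFunctor X (genericPoint X)).map φ))
    (L : X.Modules) (hL : PicF.IsInvertible L) (i : ℕ) :
    W4c5asymptcohfn.hhatF k X n i F L = W4c5asymptcohfn.hhatF k X n i G L := by
  haveI := EulerLib.isNoetherian_of_proper (X := X) k
  let St := DerSch.stalkFunctor X (genericPoint X)
  have cK : Coh.IsCoh (kernel φ) := isCoh_kernel _ hF hG.1
  have cC : Coh.IsCoh (cokernel φ) := isCoh_cokernel _ hF.1 hG
  have hK : genericPoint X ∉ CohB1.support (kernel φ) := fun hz => hz (subsingleton_of_forall_eq 0 fun a => by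
    refine (ModuleCat.mono_iff_injective (St.map (kernel.ι φ))).1 inferInstance ?_
    refine hφ.1 ?_
    rw [← ConcreteCategory.comp_apply, ← Functor.map_comp, kernel.condition, Functor.map_zero]
    erw [map_zero, map_zero]
    rfl)
  have hC : genericPoint X ∉ CohB1.support (cokernel φ) := fun hz => hz (subsingleton_of_forall_eq 0 fun a => by
    obtain ⟨w, rfl⟩ := (ModuleCat.epi_iff_surjective (St.map (cokernel.π φ))).1 inferInstance a
    obtain ⟨v, rfl⟩ := hφ.2 w
    rw [← ConcreteCategory.comp_apply, ← Functor.map_comp, cokernel.condition, Functor.map_zero]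
    rfl)
  let S₁ := ShortComplex.mk (kernel.ι φ) (Abelian.factorThruImage φ)
    (by rw [← cancel_mono (Abelian.image.ι φ), Category.assoc, Abelian.image.fac, kernel.condition, zero_comp])
  have hS₁ : S₁.ShortExact :=
    { exact := ShortComplex.exact_of_f_is_kernel _
        (isKernelOfComp (f := Abelian.factorThruImage φ) (Abelian.image.ι φ) φ (kernelIsKernel φ) S₁.zero
          (Abelian.image.fac φ))
      mono_f := inferInstanceAs (Mono (kernel.ι φ))
      epi_g := inferInstanceAs (Epi (Abelian.factorThruImage φ)) }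
  let S₂ := ShortComplex.mk (Abelian.image.ι φ) (cokernel.π φ) (kernel.condition (cokernel.π φ))
  have hS₂ : S₂.ShortExact :=
    { exact := ShortComplex.exact_of_f_is_kernel _ (kernelIsKernel (cokernel.π φ))
      mono_f := inferInstanceAs (Mono (kernel.ι (cokernel.π φ)))
      epi_g := inferInstanceAs (Epi (cokernel.π φ)) }
  have cI : Coh.IsCoh (Abelian.image φ) := isCoh_kernel _ hG cC.1
  exact (hhatF_mid_eq_right k hproj hn hS₁ cK hF cI (dim_lt_of_notMem_generic k hn cK hK) L hL i).trans
    (hhatF_left_eq_mid k hproj hn hS₂ cI hG cC (dim_lt_of_notMem_generic k hn cC hC) L hL i)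

/-- The asymptotic cohomology of a coherent module is its rank times that of the structure sheaf. -/
theorem hhatF_eq_rank_mul (hproj : ∃ A : X.Modules, CohB1.IsAmple A) {n : ℕ}
    (hn : topologicalKrullDim X = n) {F : X.Modules} (hF : Coh.IsCoh F) {r : ℕ}
    (hr : Module.finrank (X.presheaf.stalk (genericPoint X)) (F.presheaf.stalk (genericPoint X)) = r)
    (L : X.Modules) (hL : PicF.IsInvertible L) (i : ℕ) :
    W4c5asymptcohfn.hhatF k X n i F L = (r : ℝ) * W4c5asymptcohfn.hhat k X n i L := by
  haveI := EulerLib.isNoetherian_of_proper (X := X) k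
  obtain ⟨G, hG, ⟨e⟩, hhG⟩ := exists_sum_copies (X := X) k r
  have hf : IsField (X.presheaf.stalk (genericPoint X)) := Field.toIsField X.functionField
  letI : Field (X.presheaf.stalk (genericPoint X)) := hf.toField
  haveI : Module.Finite (X.presheaf.stalk (genericPoint X)) ((DerSch.stalkFunctor X (genericPoint X)).obj F) :=
    Groth.Agent.AssSch12.finite_stalk hF _
  haveI : Module.Finite (X.presheaf.stalk (genericPoint X)) ((DerSch.stalkFunctor X (genericPoint X)).obj G) :=
    Module.Finite.equiv e.symm
  have eFG : (DerSch.stalkFunctor X (genericPoint X)).obj F ≃ₗ[X.presheaf.stalk (genericPoint X)]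
      (DerSch.stalkFunctor X (genericPoint X)).obj G :=
    LinearEquiv.ofFinrankEq _ _ (hr.trans ((e.finrank_eq.trans (Module.finrank_fin_fun _)).symm))
  have hk : Killed (genericPoint X) 1 G := fun a ha b => by
    rw [pow_one, IsLocalRing.isField_iff_maximalIdeal_eq.1 hf, Ideal.mem_bot] at ha
    subst ha
    exact zero_smul _ b
  obtain ⟨E, a, b, hE, ha, hb⟩ := exists_roof hF hG eFG.toModuleIso hk
  rw [← hhatF_eq_of_bijective k hproj hn hE hF a ha L hL i, hhatF_eq_of_bijective k hproj hn hE hG b hb L hL i,
    hhatF_eq k n i G L hL, hhat_eq k n i L hL]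
  have hseqG : hseq k n i G (InvCl.mk L hL) =
      fun m => (r : ℝ) * hseq k n i (Coh.structureModule X) (InvCl.mk L hL) m := funext fun m => by
    simp only [hseq, hhG]
    push_cast
    ring
  rw [hseqG]
  have hb := isBoundedUnder_hseq k hproj (isCoh_structureModule X) (dim_lt_succ_of_dim_eq hn _) L hL i
  exact (Monotone.map_limsup_of_continuousAt (f := fun x : ℝ => (r : ℝ) * x)
    (fun x y h => mul_le_mul_of_nonneg_left h (Nat.cast_nonneg _)) _ (continuous_const.mul continuous_id).continuousAt hb
    (isCoboundedUnder_le_of_le atTop (hseq_nonneg k n i _ _))).symm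

end Groth.Agent.H0Growth23

end
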