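import Groth.Agent.Mumford23.Section
import Groth.Agent.Mumford23.H1
import Groth.Agent.AmpleLib.Generated
import Groth.Agent.EulerLib.IntPoly
import Groth.Agent.EulerLib.HilbPoly
import Groth.Agent.Coherent.Serre.Vanishing
import Groth.Agent.AssSch12.Uniq
import Groth.Agent.PicLib.PicMonoid
import Groth.Agent.EulerLib.Degree
import Mathlib.Analysis.Polynomial.Basic

/-!
# Growth of the sections of twists
-/

set_option autoImplicit false
set_option linter.style.haveILetI false
set_option backward.isDefEq.respectTransparency.types false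

universe u

open CategoryTheory CategoryTheory.Limits AlgebraicGeometry TopologicalSpace Opposite
open Groth.Agent.Coherent Groth.Agent.PicLib Groth.Agent.AmpleLib

noncomputable section

namespace Groth.Agent.H0Growth23

variable {X : Scheme.{u}}

theorem nonempty_iso_of_mk_eq {L N : X.Modules} {hL : PicF.IsInvertible L} {hN : PicF.IsInvertible N}
    (h : EulerLib.InvCl.mk L hL = EulerLib.InvCl.mk N hN) : Nonempty (L ≅ N) := Quotient.exact h

theorem natDegree_aeval_X_le (P : MvPolynomial (Fin 1) ℚ) :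
    (MvPolynomial.aeval (fun _ => (Polynomial.X : Polynomial ℚ)) P).natDegree ≤ P.totalDegree :=
  (MvPolynomial.aeval_natDegree_le P le_rfl _ (n := 1) fun _ => Polynomial.natDegree_X_le).trans_eq (mul_one _)

variable (k : Type u) [Field k] [X.Over (Spec (CommRingCat.of k))] [IsProper (X ↘ Spec (CommRingCat.of k))]

/-- Sections of ample twists are eventually given by a polynomial of degree at most the dimension. -/
theorem exists_h0_poly {A : X.Modules} (hA : CohB1.IsAmple A) {F : X.Modules} (hF : Coh.IsCoh F) {d : ℕ}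
    (hd : topologicalKrullDim (CohB1.support F) ≤ d) :
    ∃ (P : Polynomial ℚ) (n₀ : ℕ), P.natDegree ≤ d ∧ ∀ n : ℕ, n₀ ≤ n →
      (Module.finrank k (Coh.HH X (CohB1.tensorMod F (CohB1.tensorPow A n)) 0) : ℚ) = P.eval (n : ℚ) := by
  obtain ⟨n₀, hn₀⟩ := Coherent.Serre.exists_subsingleton_HH_twist k hA F hF
  obtain ⟨P, hdeg, hP⟩ := EulerLib.snapper k hF hd (fun _ : Fin 1 => EulerLib.InvCl.mk A hA.1)
  refine ⟨MvPolynomial.aeval (fun _ => Polynomial.X) P, n₀, (natDegree_aeval_X_le P).trans hdeg, fun n hn => ?_⟩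
  have h := hP fun _ => n
  rw [Fin.prod_univ_one, ← EulerLib.euler_twist_eq k hA.1 F n,
    ShStab.twist, EulerLib.euler_eq_sum k X _ 0 fun q hq => hn₀ n hn q hq] at h
  simp only [zero_add, Finset.range_one, Finset.sum_singleton, pow_zero, one_mul, Int.cast_natCast] at h
  refine h.trans ?_
  clear h hP hdeg
  induction P using MvPolynomial.induction_on with
  | C c => simp
  | add p q hp hq => rw [map_add, map_add, Polynomial.eval_add, hp, hq]
  | mul_X p i hp => rw [map_mul, map_mul, Polynomial.eval_mul, hp]; simp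

/-- `h⁰(F ⊗ L^m) = O(m^d)` for `d` bounding the dimension of the support of `F`. -/
theorem exists_h0_bound {A : X.Modules} (hA : CohB1.IsAmple A) {L : X.Modules} (hL : PicF.IsInvertible L)
    {F : X.Modules} (hF : Coh.IsCoh F) {d : ℕ} (hd : topologicalKrullDim (CohB1.support F) ≤ d) :
    ∃ C : ℚ, 0 ≤ C ∧ ∀ m : ℕ, 1 ≤ m →
      (Module.finrank k (Coh.HH X (CohB1.tensorMod F (CohB1.tensorPow L m)) 0) : ℚ) ≤ C * (m : ℚ) ^ d := by
  haveI := EulerLib.isNoetherian_of_proper (X := X) k
  haveI : X.IsSeparated := EulerLib.isSeparated_of_proper k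
  obtain ⟨L', hinv⟩ := VarietyLib.exists_isInverseOf hL
  obtain ⟨eL⟩ := hinv
  have hL' : PicF.IsInvertible L' :=
    PicM.isInvertible_of_tensor hL (glocus_isInvertible_of_iso eL.symm isInvertible_structureModule)
  obtain ⟨c, hcpos, hc⟩ := eventually_ample_and_generated hA hL'
  have hB := (hc c le_rfl).1
  obtain ⟨e, he, b, hb, -, -⟩ := exists_affine_glocus_finite (U := (⊤ : X.Opens)) hB (AssSch.Ass F)
    (AssSch12.finite_ass F hF) (Set.subset_univ _)
  let cls := fun (M : X.Modules) (h : PicF.IsInvertible M) => EulerLib.InvCl.mk M h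
  have hB' := isInvertible_tensorPow hB.1 e
  have hr : ∀ r : Fin e, ∃ (P : Polynomial ℚ) (n₀ : ℕ), P.natDegree ≤ d ∧ ∀ n : ℕ, n₀ ≤ n →
      (Module.finrank k (Coh.HH X (CohB1.tensorMod (CohB1.tensorMod F (CohB1.tensorPow L r)) (CohB1.tensorPow A n)) 0)
        : ℚ) = P.eval (n : ℚ) := fun r =>
    exists_h0_poly k hA (EulerLib.isCoh_twist (isInvertible_tensorPow hL r) hF)
      ((EulerLib.support_twist (isInvertible_tensorPow hL r) F).symm ▸ hd)
  choose P n₀ hP hPn using hr
  -- `h⁰(F ⊗ L^(e q + r)) ≤ h⁰(F ⊗ L^r ⊗ A^(c e q))`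
  have hle : ∀ (r : Fin e) (q : ℕ), Module.finrank k (Coh.HH X (CohB1.tensorMod F (CohB1.tensorPow L (e * q + r))) 0) ≤
      Module.finrank k (Coh.HH X (CohB1.tensorMod (CohB1.tensorMod F (CohB1.tensorPow L r))
        (CohB1.tensorPow A (c * e * q))) 0) := by
    intro r q
    let B := CohB1.tensorPow (CohB1.tensorPow (CohB1.tensorMod (CohB1.tensorPow A c) L') e) q
    have hBq : PicF.IsInvertible B := isInvertible_tensorPow hB' q
    have hM : PicF.IsInvertible (CohB1.tensorPow L (e * q + r)) := isInvertible_tensorPow hL _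
    haveI : Mono (EulerLib.mulSec F (powSec b q)) := by
      refine Mumford23.mono_mulSec hF.1 _ (hb.trans fun x hx => ?_)
      rcases q with _ | q
      · have h1 : glocus (CohB1.tensorPow (CohB1.tensorPow (CohB1.tensorMod (CohB1.tensorPow A c) L') e) 0)
            (powSec b 0) = ⊤ := glocus_oneSec
        exact h1.ge trivial
      · exact (glocus_powSec hB' b q).ge hx
    obtain ⟨e₁⟩ := EulerLib.exists_assocIso' F hBq hM
    have hcls : EulerLib.InvCl.mk _ (isInvertible_tensorMod hBq hM) = EulerLib.InvCl.mk _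
        (isInvertible_tensorMod (isInvertible_tensorPow hL r) (isInvertible_tensorPow hA.1 (c * e * q))) := by
      have h1 : cls L hL * cls L' hL' = 1 := EulerLib.InvCl.mk_eq _ _ eL
      simp only [B, ← EulerLib.InvCl.mk_mul hBq hM,
        ← EulerLib.InvCl.mk_mul (isInvertible_tensorPow hL r) (isInvertible_tensorPow hA.1 (c * e * q)),
        EulerLib.InvCl.mk_tensorPow hA.1, EulerLib.InvCl.mk_tensorPow hL, EulerLib.InvCl.mk_tensorPow hB',
        EulerLib.InvCl.mk_tensorPow hB.1, ← EulerLib.InvCl.mk_mul (isInvertible_tensorPow hA.1 c) hL']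
      calc ((cls A hA.1 ^ c * cls L' hL') ^ e) ^ q * cls L hL ^ (e * q + r)
          = cls L hL ^ (r : ℕ) * cls A hA.1 ^ (c * e * q) * (cls L hL * cls L' hL') ^ (e * q) := by
            simp only [mul_pow, ← pow_mul, pow_add, mul_assoc]
            ac_rfl
        _ = _ := by rw [h1, one_pow, mul_one]
    obtain ⟨e₂⟩ := nonempty_iso_of_mk_eq hcls
    obtain ⟨e₃⟩ := EulerLib.exists_assocIso' F (isInvertible_tensorPow hL r) (isInvertible_tensorPow hA.1 (c * e * q))
    haveI : Mono (tensorMap (EulerLib.mulSec F (powSec b q)) (𝟙 (CohB1.tensorPow L (e * q + r)))) :=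
      EulerLib.mono_tensorMap hM _
    exact Mumford23.finrank_H0_le k
      (EulerLib.isCoh_twist (isInvertible_tensorPow hA.1 _) (EulerLib.isCoh_twist (isInvertible_tensorPow hL r) hF))
      (tensorMap (EulerLib.mulSec F (powSec b q)) (𝟙 _) ≫
        (e₁ ≪≫ tensorIso (Iso.refl F) e₂ ≪≫ e₃.symm).hom)
  -- polynomial bounds
  let S : ℕ → ℚ := fun N => ∑ r : Fin e, ∑ j ∈ Finset.range (d + 1), |(P r).coeff j| * ((c * e : ℕ) : ℚ) ^ j * (N : ℚ) ^ j
  let M₀ : ℕ := ∑ r : Fin e, n₀ r
  let small : ℕ := ∑ m ∈ Finset.range (e * (M₀ + 1)),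
    Module.finrank k (Coh.HH X (CohB1.tensorMod F (CohB1.tensorPow L m)) 0)
  refine ⟨(small : ℚ) + S 1, add_nonneg (Nat.cast_nonneg _) (Finset.sum_nonneg fun r _ =>
    Finset.sum_nonneg fun j _ => by positivity), fun m hm => ?_⟩
  have hm1 : (1 : ℚ) ≤ (m : ℚ) := by exact_mod_cast hm
  have hmd : (1 : ℚ) ≤ (m : ℚ) ^ d := one_le_pow₀ hm1
  have hS1 : 0 ≤ S 1 := Finset.sum_nonneg fun r _ => Finset.sum_nonneg fun j _ => by positivity
  by_cases hsm : m < e * (M₀ + 1)
  · calc _ ≤ (small : ℚ) := by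
          exact_mod_cast Finset.single_le_sum
            (f := fun m => Module.finrank k (Coh.HH X (CohB1.tensorMod F (CohB1.tensorPow L m)) 0))
            (fun _ _ => Nat.zero_le _) (Finset.mem_range.2 hsm)
      _ ≤ (small : ℚ) * (m : ℚ) ^ d := le_mul_of_one_le_right (Nat.cast_nonneg _) hmd
      _ ≤ _ := by nlinarith
  · push Not at hsm
    let r : Fin e := ⟨m % e, Nat.mod_lt _ he⟩
    let q := m / e
    have hmq : e * q + r = m := Nat.div_add_mod m e
    have hq : M₀ + 1 ≤ q := (Nat.le_div_iff_mul_le he).2 (by rw [mul_comm]; exact hsm)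
    have hq1 : (1 : ℚ) ≤ (q : ℚ) := by exact_mod_cast (by omega : 1 ≤ q)
    have hqm : (q : ℚ) ≤ (m : ℚ) := by exact_mod_cast Nat.div_le_self m e
    have hn₀ : n₀ r ≤ c * e * q := by
      refine (Finset.single_le_sum (fun _ _ => Nat.zero_le _) (Finset.mem_univ r)).trans ?_
      calc M₀ ≤ q := by omega
        _ ≤ c * e * q := Nat.le_mul_of_pos_left q (Nat.mul_pos hcpos he)
    · have h := hle r q
      rw [hmq] at h
      calc (Module.finrank k (Coh.HH X (CohB1.tensorMod F (CohB1.tensorPow L m)) 0) : ℚ)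
          ≤ (P r).eval ((c * e * q : ℕ) : ℚ) := by rw [← hPn r _ hn₀]; exact_mod_cast h
        _ = ∑ j ∈ Finset.range (d + 1), (P r).coeff j * ((c * e * q : ℕ) : ℚ) ^ j :=
            Polynomial.eval_eq_sum_range' (Nat.lt_succ_of_le (hP r)) _
        _ ≤ ∑ j ∈ Finset.range (d + 1), |(P r).coeff j| * ((c * e : ℕ) : ℚ) ^ j * ((1 : ℕ) : ℚ) ^ j * (m : ℚ) ^ d :=
            Finset.sum_le_sum fun j hj => by
              have hjd : (q : ℚ) ^ j ≤ (m : ℚ) ^ d :=
                (pow_le_pow_left₀ (by positivity) hqm j).trans (pow_le_pow_right₀ hm1 (Nat.lt_succ_iff.1 (Finset.mem_range.1 hj)))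
              push_cast
              rw [mul_pow, one_pow, mul_one]
              calc (P r).coeff j * (((c : ℚ) * e) ^ j * (q : ℚ) ^ j)
                  ≤ |(P r).coeff j| * (((c : ℚ) * e) ^ j * (q : ℚ) ^ j) :=
                    mul_le_mul_of_nonneg_right (le_abs_self _) (by positivity)
                _ ≤ _ := by
                  rw [← mul_assoc]
                  exact mul_le_mul_of_nonneg_left hjd (by positivity)
        _ = (∑ j ∈ Finset.range (d + 1), |(P r).coeff j| * ((c * e : ℕ) : ℚ) ^ j * ((1 : ℕ) : ℚ) ^ j) * (m : ℚ) ^ d :=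
            (Finset.sum_mul ..).symm
        _ ≤ S 1 * (m : ℚ) ^ d := by
            refine mul_le_mul_of_nonneg_right ?_ (by positivity)
            exact Finset.single_le_sum (f := fun r => ∑ j ∈ Finset.range (d + 1),
              |(P r).coeff j| * ((c * e : ℕ) : ℚ) ^ j * ((1 : ℕ) : ℚ) ^ j)
              (fun r _ => Finset.sum_nonneg fun j _ => by positivity) (Finset.mem_univ r)
        _ ≤ _ := mul_le_mul_of_nonneg_right (le_add_of_nonneg_left (Nat.cast_nonneg _)) (by positivity)

end Groth.Agent.H0Growth23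

end
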