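import Groth.Agent.H0Growth23.Basic
import Groth.Agent.CurveRR24.Section
import Groth.Agent.AbCubeLib.FiniteDegree
import Groth.Agent.EulerLib.SupportVanishing
import Groth.Agent.SerreDual.LocFreeCriterion
import Groth.Agent.LESBound.Ineq

/-!
# Big invertible modules: Kodaira's lemma
-/

set_option autoImplicit false
set_option linter.style.haveILetI false
set_option backward.isDefEq.respectTransparency.types false

universe u

open CategoryTheory CategoryTheory.Limits AlgebraicGeometry TopologicalSpace Opposite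
open Groth.Agent.Coherent Groth.Agent.PicLib Groth.Agent.AmpleLib

noncomputable section

namespace Groth.Agent.H0Growth23

variable {X : Scheme.{u}}

/-- A representative of a class. -/
def repCl (c : EulerLib.InvCl X) : X.Modules := c.exists_rep.choose

theorem isInvertible_repCl (c : EulerLib.InvCl X) : PicF.IsInvertible (repCl c) := c.exists_rep.choose_spec.choose

theorem mk_repCl (c : EulerLib.InvCl X) : EulerLib.InvCl.mk (repCl c) (isInvertible_repCl c) = c :=
  c.exists_rep.choose_spec.choose_spec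

theorem le_of_lt_natCast_succ {x : WithBot ℕ∞} {d : ℕ} (h : x < ((d + 1 : ℕ) : WithBot ℕ∞)) : x ≤ (d : WithBot ℕ∞) := by
  induction x using WithBot.recBotCoe with
  | bot => exact bot_le
  | coe a =>
    induction a using ENat.recTopCoe with
    | top => exact absurd (WithBot.coe_lt_coe.1 h) not_top_lt
    | coe n =>
      have h' : n < d + 1 := by exact_mod_cast h
      exact_mod_cast Nat.lt_succ_iff.1 h'

theorem nonempty_iso_repCl (L : X.Modules) (hL : PicF.IsInvertible L) :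
    Nonempty (repCl (EulerLib.InvCl.mk L hL) ≅ L) :=
  nonempty_iso_of_mk_eq (mk_repCl (EulerLib.InvCl.mk L hL))

theorem exists_inv {L : X.Modules} (hL : PicF.IsInvertible L) :
    ∃ c : EulerLib.InvCl X, EulerLib.InvCl.mk L hL * c = 1 := by
  obtain ⟨L', hinv⟩ := VarietyLib.exists_isInverseOf hL
  obtain ⟨e⟩ := hinv
  have hL' : PicF.IsInvertible L' :=
    PicM.isInvertible_of_tensor hL (glocus_isInvertible_of_iso e.symm isInvertible_structureModule)
  exact ⟨EulerLib.InvCl.mk L' hL', EulerLib.InvCl.mk_eq _ _ e⟩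

/-- A class with a nonzero section. -/
def EffCl (c : EulerLib.InvCl X) : Prop := ∃ s : Γ(repCl c, (⊤ : X.Opens)), s ≠ 0

theorem effCl_of_section {L : X.Modules} (hL : PicF.IsInvertible L) {s : Γ(L, (⊤ : X.Opens))} (hs : s ≠ 0) :
    EffCl (EulerLib.InvCl.mk L hL) := by
  obtain ⟨e⟩ := nonempty_iso_repCl L hL
  refine ⟨e.inv.app ⊤ s, fun h => hs ?_⟩
  have h2 := congrArg (e.hom.app ⊤) h
  rw [map_zero] at h2
  have h3 := congrArg (fun φ : L ⟶ L => φ.app (⊤ : X.Opens) s) e.inv_hom_id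
  exact h3.symm.trans h2

variable [IsIntegral X]

theorem notMem_glocus_zero (L : X.Modules) (x : X) : x ∉ glocus L (0 : Γ(L, (⊤ : X.Opens))) := by
  intro hx
  haveI : Nonempty (glocus L (0 : Γ(L, (⊤ : X.Opens)))) := ⟨⟨x, hx⟩⟩
  have h := (isGen_glocus (L := L) (0 : Γ(L, (⊤ : X.Opens))) _ le_rfl).1
    (a₁ := (1 : Γ(X, glocus L (0 : Γ(L, (⊤ : X.Opens)))))) (a₂ := 0)
    (by simp only [map_zero, smul_zero])
  exact one_ne_zero h

theorem EffCl.mul {a b : EulerLib.InvCl X} (ha : EffCl a) (hb : EffCl b) : EffCl (a * b) := by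
  obtain ⟨s, hs⟩ := ha
  obtain ⟨t, ht⟩ := hb
  have h := effCl_of_section (isInvertible_tensorMod (isInvertible_repCl a) (isInvertible_repCl b))
    (s := tmul s t) fun h => notMem_glocus_zero _ (genericPoint X) <| h ▸
      (glocus_tmul (isInvertible_repCl a) (isInvertible_repCl b) s t).ge
        ⟨CurveRR24.genericPoint_mem_glocus (isInvertible_repCl a) hs,
          CurveRR24.genericPoint_mem_glocus (isInvertible_repCl b) ht⟩
  rwa [← EulerLib.InvCl.mk_mul (isInvertible_repCl a) (isInvertible_repCl b), mk_repCl, mk_repCl] at h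

theorem effCl_one : EffCl (1 : EulerLib.InvCl X) :=
  effCl_of_section isInvertible_structureModule (s := oneSec ⊤) fun h =>
    notMem_glocus_zero (Coh.structureModule X) (genericPoint X) (h ▸ glocus_oneSec.ge trivial)

theorem EffCl.pow {a : EulerLib.InvCl X} (ha : EffCl a) : ∀ n : ℕ, EffCl (a ^ n)
  | 0 => by rw [pow_zero]; exact effCl_one
  | n + 1 => by rw [pow_succ]; exact (ha.pow n).mul ha

theorem effCl_of_gg [IsLocallyNoetherian X] {L : X.Modules} (hL : PicF.IsInvertible L)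
    (hgg : Curv2.IsGloballyGenerated L) : EffCl (EulerLib.InvCl.mk L hL) := by
  by_contra hc
  have h0 : ∀ s : Γ(L, (⊤ : X.Opens)), s = 0 := fun s => by_contra fun hs => hc (effCl_of_section hL hs)
  have hmem : genericPoint X ∈ CohB1.support L := by
    rw [← show CohB1.support (CohB1.tensorMod (Coh.structureModule X) L) = CohB1.support L from
        Coherent.support_eq_of_iso (unitTensorIso L), EulerLib.support_twist hL, AbCubeLib.support_structureModule_eq_univ]
    trivial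
  refine hmem (subsingleton_of_forall_eq 0 fun v => ?_)
  have hspan := SerreDual.span_germ_top_eq_top hgg (genericPoint X)
  have hv : v ∈ Submodule.span (X.presheaf.stalk (genericPoint X)) ({0} : Set (L.presheaf.stalk (genericPoint X))) :=
    Submodule.span_mono (by
      rintro _ ⟨s, rfl⟩
      exact (congrArg (L.presheaf.germ ⊤ (genericPoint X) trivial) (h0 s)).trans (map_zero _)) (hspan ▸ Submodule.mem_top)
  obtain ⟨c, hc'⟩ := Submodule.mem_span_singleton.1 hv
  exact hc'.symm.trans (smul_zero c)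

variable (k : Type u) [Field k] [X.Over (Spec (CommRingCat.of k))]

/-- `h⁰` of a class. -/
def h0Cl (c : EulerLib.InvCl X) : ℕ := Module.finrank k (Coh.HH X (repCl c) 0)

omit [IsIntegral X] in
theorem h0Cl_mk (L : X.Modules) (hL : PicF.IsInvertible L) :
    h0Cl k (EulerLib.InvCl.mk L hL) = Module.finrank k (Coh.HH X L 0) := by
  obtain ⟨e⟩ := nonempty_iso_repCl L hL
  exact CurveRR24.finrank_HH_congr k e 0

omit [IsIntegral X] in
theorem h0Cl_pow (L : X.Modules) (hL : PicF.IsInvertible L) (m : ℕ) :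
    h0Cl k (EulerLib.InvCl.mk L hL ^ m) = Module.finrank k (Coh.HH X (CohB1.tensorPow L m) 0) := by
  rw [← EulerLib.InvCl.mk_tensorPow hL, h0Cl_mk]

omit [IsIntegral X] in
theorem effCl_of_h0_pos {c : EulerLib.InvCl X} (h : h0Cl k c ≠ 0) : EffCl c :=
  CurveRR24.exists_ne_zero_of_nontrivial k (not_subsingleton_iff_nontrivial.1 fun hs =>
    h (@Module.finrank_zero_of_subsingleton k (Coh.HH X (repCl c) 0) _ _ _ _ hs))

variable [hprop : IsProper (X ↘ Spec (CommRingCat.of k))]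
include hprop

theorem h0Cl_le_mul {a e : EulerLib.InvCl X} (he : EffCl e) : h0Cl k a ≤ h0Cl k (e * a) := by
  haveI := EulerLib.isNoetherian_of_proper (X := X) k
  obtain ⟨s, hs⟩ := he
  haveI := CurveRR24.mono_unitDesc (isInvertible_repCl e) hs
  haveI : Mono (tensorMap (unitDesc (repCl e) s) (𝟙 (repCl a))) :=
    EulerLib.mono_tensorMap (isInvertible_repCl a) _
  have hN : PicF.IsInvertible (CohB1.tensorMod (repCl e) (repCl a)) :=
    isInvertible_tensorMod (isInvertible_repCl e) (isInvertible_repCl a)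
  have h : h0Cl k a ≤ Module.finrank k (Coh.HH X (CohB1.tensorMod (repCl e) (repCl a)) 0) :=
    Mumford23.finrank_H0_le k (CurveRR24.isCoh_of_isInvertible k hN)
      ((unitTensorIso (repCl a)).inv ≫ tensorMap (unitDesc (repCl e) s) (𝟙 (repCl a)))
  rwa [← h0Cl_mk k _ hN, ← EulerLib.InvCl.mk_mul (isInvertible_repCl e) (isInvertible_repCl a), mk_repCl,
    mk_repCl] at h

include k in
/-- An ample class with a section. -/
theorem exists_ample_eff (hproj : ∃ A : X.Modules, CohB1.IsAmple A) :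
    ∃ (A : X.Modules) (hA : CohB1.IsAmple A), EffCl (EulerLib.InvCl.mk A hA.1) := by
  haveI := EulerLib.isNoetherian_of_proper (X := X) k
  haveI : X.IsSeparated := EulerLib.isSeparated_of_proper k
  obtain ⟨A, hA⟩ := hproj
  obtain ⟨c, hc0, hc⟩ := eventually_ample_and_generated hA isInvertible_structureModule
  exact ⟨_, (hc c le_rfl).1, effCl_of_gg _ (hc c le_rfl).2⟩

variable {d : ℕ} (hd : topologicalKrullDim X = d)

include hd in
/-- Kodaira's lemma. -/
theorem exists_eff_sub_ample {A : X.Modules} (hA : CohB1.IsAmple A) (hA0 : EffCl (EulerLib.InvCl.mk A hA.1))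
    {a' : EulerLib.InvCl X} (ha' : EulerLib.InvCl.mk A hA.1 * a' = 1) {ℓ : EulerLib.InvCl X}
    (hbig : ∀ C : ℚ, ∃ m : ℕ, 1 ≤ m ∧ C * (m : ℚ) ^ d < (h0Cl k (ℓ ^ m) : ℚ) * m) :
    ∃ m : ℕ, 0 < m ∧ EffCl (ℓ ^ m * a') := by
  haveI := EulerLib.isNoetherian_of_proper (X := X) k
  by_contra hcon
  push Not at hcon
  obtain ⟨s, hs⟩ := hA0
  let A₁ := repCl (EulerLib.InvCl.mk A hA.1)
  haveI := CurveRR24.mono_unitDesc (isInvertible_repCl (EulerLib.InvCl.mk A hA.1)) hs
  let Q := cokernel (unitDesc A₁ s)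
  have hAc : Coh.IsCoh A₁ := CurveRR24.isCoh_of_isInvertible k (isInvertible_repCl _)
  have hQ : Coh.IsCoh Q := isCoh_cokernel _ (Coherent.isCoh_structureModule X).1 hAc
  let a₁ := isInvertible_repCl (X := X) a'
  have hQ' : Coh.IsCoh (CohB1.tensorMod Q (repCl a')) := EulerLib.isCoh_twist a₁ hQ
  have hsupp : CohB1.support Q ⊆ (glocus A₁ s : Set X)ᶜ := CurveRR24.support_cokernel_unitDesc s
  have hdimT : topologicalKrullDim ((glocus A₁ s : Set X)ᶜ : Set X) < (d : ℕ) :=
    EulerLib.dim_lt_of_notMem (glocus A₁ s).2.isClosed_compl (Set.subset_univ _) isClosed_univ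
      (genericPoint_spec X) (fun h => h (CurveRR24.genericPoint_mem_glocus (isInvertible_repCl _) hs))
      ((Topology.IsInducing.subtypeVal.topologicalKrullDim_le).trans hd.le)
  -- the bound on the quotient
  have hqb : ∃ C : ℚ, 0 ≤ C ∧ ∀ m : ℕ, 1 ≤ m → (Module.finrank k (Coh.HH X
      (CohB1.tensorMod (CohB1.tensorMod Q (repCl a')) (CohB1.tensorPow (repCl ℓ) m)) 0) : ℚ) * m ≤ C * (m : ℚ) ^ d := by
    have hle : topologicalKrullDim (CohB1.support Q) ≤ topologicalKrullDim ((glocus A₁ s : Set X)ᶜ : Set X) :=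
      (Topology.IsInducing.of_comp (continuous_inclusion hsupp) continuous_subtype_val
        (g := (Subtype.val : ((glocus A₁ s : Set X)ᶜ : Set X) → X)) Topology.IsInducing.subtypeVal).topologicalKrullDim_le
    rcases d with _ | d
    · refine ⟨0, le_rfl, fun m _ => ?_⟩
      have hQ0 : IsZero (CohB1.tensorMod (CohB1.tensorMod Q (repCl a')) (CohB1.tensorPow (repCl ℓ) m)) := by
        refine EulerLib.isZero_of_support_eq_empty ?_
        rw [EulerLib.support_twist (isInvertible_tensorPow (isInvertible_repCl ℓ) m), EulerLib.support_twist a₁]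
        by_contra hne
        obtain ⟨x₀, hx₀⟩ := Set.nonempty_iff_ne_empty.2 hne
        haveI : Nonempty (TopologicalSpace.IrreducibleCloseds (CohB1.support Q)) :=
          ⟨⟨closure {(⟨x₀, hx₀⟩ : CohB1.support Q)}, isIrreducible_singleton.closure, isClosed_closure⟩⟩
        exact not_lt.2 (Order.krullDim_nonneg (α := TopologicalSpace.IrreducibleCloseds (CohB1.support Q))) (lt_of_le_of_lt hle (by exact_mod_cast hdimT))
      haveI : Subsingleton (Coh.HH X (CohB1.tensorMod (CohB1.tensorMod Q (repCl a')) (CohB1.tensorPow (repCl ℓ) m)) 0) :=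
        EulerLib.subsingleton_HH_of_isZero hQ0 0
      simp [Module.finrank_zero_of_subsingleton]
    · obtain ⟨C, hC0, hC⟩ := exists_h0_bound k hA (isInvertible_repCl ℓ) hQ' (d := d) (by
        rw [EulerLib.support_twist a₁]
        refine hle.trans ?_
        exact le_of_lt_natCast_succ hdimT)
      refine ⟨C, hC0, fun m hm => ?_⟩
      rw [pow_succ, ← mul_assoc]
      exact mul_le_mul_of_nonneg_right (hC m hm) (Nat.cast_nonneg _)
  obtain ⟨C, -, hC⟩ := hqb
  obtain ⟨m, hm, hlt⟩ := hbig C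
  refine not_le.2 hlt (le_trans (mul_le_mul_of_nonneg_right ?_ (Nat.cast_nonneg _)) (hC m hm))
  -- `0 → ℓ^m a' → ℓ^m → Q ⊗ a' ⊗ ℓ^m`
  let P := CohB1.tensorMod (repCl a') (CohB1.tensorPow (repCl ℓ) m)
  have hP : PicF.IsInvertible P := isInvertible_tensorMod a₁ (isInvertible_tensorPow (isInvertible_repCl ℓ) m)
  have hS : (ShortComplex.mk (unitDesc A₁ s) (cokernel.π _) (cokernel.condition _)).ShortExact :=
    { exact := ShortComplex.exact_cokernel _ }
  have hmid := LESBound.hdim_mid k _ (EulerLib.twistSeq_shortExact hP hS)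
    (EulerLib.isCoh_twist hP (Coherent.isCoh_structureModule X)) (EulerLib.isCoh_twist hP hAc)
    (EulerLib.isCoh_twist hP hQ) 0
  have h1 : h0Cl k (ℓ ^ m * a') = 0 := by_contra fun h => hcon m hm (effCl_of_h0_pos k h)
  have hmk : EulerLib.InvCl.mk P hP = a' * ℓ ^ m := by
    rw [← EulerLib.InvCl.mk_mul a₁ (isInvertible_tensorPow (isInvertible_repCl ℓ) m),
      EulerLib.InvCl.mk_tensorPow (isInvertible_repCl ℓ), mk_repCl, mk_repCl]
  have e1 : Module.finrank k (Coh.HH X (CohB1.tensorMod (Coh.structureModule X) P) 0) = 0 := by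
    rw [Mumford23.finrank_HH_congr k (unitTensorIso P) 0, ← h0Cl_mk k P hP, hmk, mul_comm, h1]
  have e2 : Module.finrank k (Coh.HH X (CohB1.tensorMod A₁ P) 0) = h0Cl k (ℓ ^ m) := by
    rw [← h0Cl_mk k _ (isInvertible_tensorMod (isInvertible_repCl _) hP),
      ← EulerLib.InvCl.mk_mul (isInvertible_repCl _) hP, mk_repCl, hmk, ← mul_assoc, ha', one_mul]
  obtain ⟨e3⟩ := EulerLib.exists_assocIso' Q a₁ (isInvertible_tensorPow (isInvertible_repCl ℓ) m)
  rw [Mumford23.finrank_HH_congr k e3 0]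
  change Module.finrank k (Coh.HH X (CohB1.tensorMod A₁ P) 0) ≤
    Module.finrank k (Coh.HH X (CohB1.tensorMod (Coh.structureModule X) P) 0) +
      Module.finrank k (Coh.HH X (CohB1.tensorMod Q P) 0) at hmid
  rw [e1, e2, zero_add] at hmid
  exact_mod_cast hmid

include k in
/-- All large powers of a big class have sections. -/
theorem exists_forall_effCl {A : X.Modules} (hA : CohB1.IsAmple A) (hA0 : EffCl (EulerLib.InvCl.mk A hA.1))
    {a' : EulerLib.InvCl X} (ha' : EulerLib.InvCl.mk A hA.1 * a' = 1) {ℓ : EulerLib.InvCl X}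
    {m₀ : ℕ} (hm₀ : 0 < m₀) (he : EffCl (ℓ ^ m₀ * a')) :
    ∃ r₀ : ℕ, ∀ j : ℕ, r₀ ≤ j → EffCl (ℓ ^ j) := by
  haveI := EulerLib.isNoetherian_of_proper (X := X) k
  haveI : X.IsSeparated := EulerLib.isSeparated_of_proper k
  obtain ⟨c, hc0, hc⟩ := eventually_ample_and_generated hA (isInvertible_repCl ℓ)
  set α := EulerLib.InvCl.mk A hA.1 with hα
  have h1 : EffCl (α ^ c * ℓ) := by
    have h := effCl_of_gg (isInvertible_tensorMod (isInvertible_tensorPow hA.1 c) (isInvertible_repCl ℓ)) (hc c le_rfl).2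
    rwa [← EulerLib.InvCl.mk_mul (isInvertible_tensorPow hA.1 c) (isInvertible_repCl ℓ),
      EulerLib.InvCl.mk_tensorPow hA.1, mk_repCl] at h
  have hcanc : α ^ c * (ℓ ^ m₀ * a') ^ c = ℓ ^ (m₀ * c) := by
    rw [mul_pow, mul_left_comm, ← mul_pow, ha', one_pow, mul_one, ← pow_mul]
  let a := m₀ * c
  have ha : EffCl (ℓ ^ a) := hcanc ▸ (hA0.pow c).mul (he.pow c)
  have ha1 : EffCl (ℓ ^ (a + 1)) := by
    have h := h1.mul (he.pow c)
    rwa [mul_right_comm, hcanc, ← pow_succ] at h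
  have hapos : 0 < a := Nat.mul_pos hm₀ hc0
  refine ⟨a * a, fun j hj => ?_⟩
  have hv : j % a < a := Nat.mod_lt _ hapos
  have hq : a ≤ j / a := (Nat.le_div_iff_mul_le hapos).2 hj
  have hj' : j = a * (j / a - j % a) + (a + 1) * (j % a) := by
    obtain ⟨t, ht⟩ := Nat.exists_eq_add_of_le (hv.le.trans hq)
    have h := Nat.div_add_mod j a
    rw [ht, Nat.add_sub_cancel_left]
    rw [ht] at h
    linarith
  rw [hj', pow_add, pow_mul (ℓ) a, pow_mul (ℓ) (a + 1)]
  exact (ha.pow _).mul (ha1.pow _)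

include hd in
/-- Sections of ample powers grow like `m^d`. -/
theorem exists_ample_lower {A : X.Modules} (hA : CohB1.IsAmple A) :
    ∃ (c : ℚ) (N : ℕ), 0 < c ∧ ∀ n : ℕ, N ≤ n → c * (n : ℚ) ^ d ≤ (h0Cl k (EulerLib.InvCl.mk A hA.1 ^ n) : ℚ) := by
  haveI := EulerLib.isNoetherian_of_proper (X := X) k
  have hO := Coherent.isCoh_structureModule X
  have hdim : topologicalKrullDim (CohB1.support (Coh.structureModule X)) = d := by
    rw [AbCubeLib.support_structureModule_eq_univ, ← hd]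
    exact IsHomeomorph.topologicalKrullDim_eq _ (Homeomorph.Set.univ X).isHomeomorph
  obtain ⟨P, hP⟩ := EulerLib.exists_isHilbPoly k hA.1 hO hdim.le
  have hdeg := (EulerLib.alpha_eq_interDeg k hA.1 hO hP hdim.le).1
  have hpos : 0 < P.coeff d := by
    have h := EulerLib.alpha_pos k hA hO hP hdim
    exact (pos_iff_pos_of_mul_pos h).1 (by exact_mod_cast Nat.factorial_pos d)
  obtain ⟨n₀, hn₀⟩ := Coherent.Serre.exists_subsingleton_HH_twist k hA _ hO
  let S : ℚ := ∑ j ∈ Finset.range d, |P.coeff j|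
  obtain ⟨M, hM⟩ := exists_nat_gt (2 * S / P.coeff d)
  refine ⟨P.coeff d / 2, max (max n₀ M) 1, by positivity, fun n hn => ?_⟩
  have he := hP n
  rw [ShStab.twist, EulerLib.euler_eq_sum k X _ 0 fun q hq => hn₀ n (by omega) q hq] at he
  simp only [zero_add, Finset.range_one, Finset.sum_singleton, pow_zero, one_mul, Int.cast_natCast] at he
  rw [h0Cl_pow, ← Mumford23.finrank_HH_congr k (unitTensorIso (CohB1.tensorPow A n)) 0, he,
    Polynomial.eval_eq_sum_range' (Nat.lt_succ_of_le hdeg), Finset.sum_range_succ]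
  have hn1 : (1 : ℚ) ≤ n := by exact_mod_cast (show 1 ≤ n by omega)
  have hnM : 2 * S ≤ P.coeff d * n := by
    have h := (div_lt_iff₀ hpos).1 hM
    have : (M : ℚ) ≤ n := by exact_mod_cast (show M ≤ n by omega)
    nlinarith
  have hlow : -((P.coeff d / 2) * (n : ℚ) ^ d) ≤ ∑ j ∈ Finset.range d, P.coeff j * (n : ℚ) ^ j := by
    rcases d with _ | d
    · simp only [Finset.range_zero, Finset.sum_empty, pow_zero, mul_one]
      linarith
    · calc -((P.coeff (d + 1) / 2) * (n : ℚ) ^ (d + 1)) ≤ -(S * (n : ℚ) ^ d) := by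
            rw [pow_succ]
            nlinarith [show (0 : ℚ) ≤ (n : ℚ) ^ d by positivity]
        _ ≤ _ := by
            rw [Finset.sum_mul, ← Finset.sum_neg_distrib]
            refine Finset.sum_le_sum fun j hj => ?_
            have hjd : (n : ℚ) ^ j ≤ (n : ℚ) ^ d := pow_le_pow_right₀ hn1 (Nat.lt_succ_iff.1 (Finset.mem_range.1 hj))
            nlinarith [neg_abs_le (P.coeff j), abs_nonneg (P.coeff j), show (0 : ℚ) ≤ (n : ℚ) ^ j by positivity]
  linarith

include hd in
/-- Kodaira's lemma for an arbitrary ample class. -/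
theorem exists_eff_sub_any {A : X.Modules} (hA : CohB1.IsAmple A) {a' : EulerLib.InvCl X}
    (ha' : EulerLib.InvCl.mk A hA.1 * a' = 1) {ℓ : EulerLib.InvCl X}
    (hbig : ∀ C : ℚ, ∃ m : ℕ, 1 ≤ m ∧ C * (m : ℚ) ^ d < (h0Cl k (ℓ ^ m) : ℚ) * m) :
    ∃ m : ℕ, 0 < m ∧ EffCl (ℓ ^ m * a') := by
  haveI := EulerLib.isNoetherian_of_proper (X := X) k
  haveI : X.IsSeparated := EulerLib.isSeparated_of_proper k
  obtain ⟨c, -, hc⟩ := eventually_ample_and_generated hA isInvertible_structureModule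
  set α := EulerLib.InvCl.mk A hA.1 with hα
  have hcls : ∀ n, EulerLib.InvCl.mk _ (isInvertible_tensorMod (isInvertible_tensorPow hA.1 n)
      (isInvertible_structureModule (X := X))) = α ^ n := fun n => by
    rw [← EulerLib.InvCl.mk_mul (isInvertible_tensorPow hA.1 n) isInvertible_structureModule,
      EulerLib.InvCl.mk_tensorPow hA.1]
    exact mul_one _
  have heff : ∀ n, c ≤ n → EffCl (α ^ n) := fun n hn => by
    rw [← hcls n]; exact effCl_of_gg _ (hc n hn).2
  have hB := (hc (c + 1) (by omega)).1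
  obtain ⟨m, hm, he⟩ := exists_eff_sub_ample k hd hB (by rw [hcls]; exact heff _ (by omega))
    (a' := a' ^ (c + 1)) (by rw [hcls, ← mul_pow, ha', one_pow]) hbig
  refine ⟨m, hm, ?_⟩
  have h := he.mul (heff c le_rfl)
  rwa [pow_succ, mul_assoc (ℓ ^ m), mul_right_comm (a' ^ c) a', mul_comm (a' ^ c) (α ^ c), ← mul_pow, ha', one_pow,
    one_mul] at h

include hd in
/-- Lower bound on sections from Kodaira's decomposition. -/
theorem exists_big_lower_of_eff {A : X.Modules} (hA : CohB1.IsAmple A) (hA0 : EffCl (EulerLib.InvCl.mk A hA.1))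
    {a' : EulerLib.InvCl X} (ha' : EulerLib.InvCl.mk A hA.1 * a' = 1) {ℓ : EulerLib.InvCl X}
    {m₀ : ℕ} (hm₀ : 0 < m₀) (he : EffCl (ℓ ^ m₀ * a')) :
    ∃ (c : ℚ) (N : ℕ), 0 < c ∧ ∀ m : ℕ, N ≤ m → c * (m : ℚ) ^ d ≤ (h0Cl k (ℓ ^ m) : ℚ) := by
  obtain ⟨r₀, hr₀⟩ := exists_forall_effCl k hA hA0 ha' hm₀ he
  obtain ⟨c, N, hc, hN⟩ := exists_ample_lower k hd hA
  refine ⟨c / (2 * m₀ : ℚ) ^ d, 2 * (r₀ + m₀) + m₀ * (N + 1), by positivity, fun m hm => ?_⟩
  let q := (m - r₀) / m₀
  have h := Nat.div_add_mod (m - r₀) m₀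
  have hlt := Nat.mod_lt (m - r₀) hm₀
  have hqN : N ≤ q := (Nat.le_div_iff_mul_le hm₀).2 (by rw [mul_add m₀, Nat.mul_one, mul_comm m₀ N] at hm; omega)
  have hqm : m₀ * q + r₀ ≤ m := by show m₀ * ((m - r₀) / m₀) + r₀ ≤ m; omega
  have hmq : m ≤ 2 * (m₀ * q) := by show m ≤ 2 * (m₀ * ((m - r₀) / m₀)); omega
  have hle : h0Cl k (EulerLib.InvCl.mk A hA.1 ^ q) ≤ h0Cl k (ℓ ^ m) := by
    refine (h0Cl_le_mul k (he.pow q)).trans ?_
    refine le_trans (le_of_eq (congrArg (h0Cl k) ?_)) ((h0Cl_le_mul k (hr₀ (m - m₀ * q) (by omega))).trans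
      (le_of_eq (congrArg (h0Cl k) ((pow_add _ _ _).symm.trans (congrArg (ℓ ^ ·) (show m - m₀ * q + m₀ * q = m by omega))))))
    rw [← mul_pow, mul_assoc, mul_comm a', ha', mul_one, ← pow_mul]
  refine le_trans ?_ ((hN q hqN).trans (by exact_mod_cast hle))
  have h2 : (m : ℚ) ≤ 2 * m₀ * q := by rw [mul_assoc]; exact_mod_cast hmq
  rw [div_mul_eq_mul_div, div_le_iff₀ (by positivity), mul_assoc, ← mul_pow, mul_comm (q : ℚ)]
  exact mul_le_mul_of_nonneg_left (pow_le_pow_left₀ (Nat.cast_nonneg _) h2 d) hc.le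

include hd in
/-- A class with unbounded growth of order `m^d` has sections bounded below by `c m^d`. -/
theorem exists_big_lower (hproj : ∃ A : X.Modules, CohB1.IsAmple A) {ℓ : EulerLib.InvCl X}
    (hbig : ∀ C : ℚ, ∃ m : ℕ, 1 ≤ m ∧ C * (m : ℚ) ^ d < (h0Cl k (ℓ ^ m) : ℚ) * m) :
    ∃ (c : ℚ) (N r₀ : ℕ), 0 < c ∧ (∀ j : ℕ, r₀ ≤ j → EffCl (ℓ ^ j)) ∧
      ∀ m : ℕ, N ≤ m → c * (m : ℚ) ^ d ≤ (h0Cl k (ℓ ^ m) : ℚ) := by
  obtain ⟨A, hA, hA0⟩ := exists_ample_eff k hproj
  obtain ⟨a', ha'⟩ := exists_inv hA.1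
  obtain ⟨m₀, hm₀, he⟩ := exists_eff_sub_ample k hd hA hA0 ha' hbig
  obtain ⟨r₀, hr₀⟩ := exists_forall_effCl k hA hA0 ha' hm₀ he
  obtain ⟨c, N, hc, hN⟩ := exists_big_lower_of_eff k hd hA hA0 ha' hm₀ he
  exact ⟨c, N, r₀, hc, hr₀, hN⟩

include hd in
/-- A big invertible module admits every ample module as a submodule of a power. -/
theorem exists_mono_of_big {A : X.Modules} (hA : CohB1.IsAmple A) {L : X.Modules} (hL : PicF.IsInvertible L)
    (hbig : ∀ C : ℚ, ∃ m : ℕ, 1 ≤ m ∧ C * (m : ℚ) ^ d < (h0Cl k (EulerLib.InvCl.mk L hL ^ m) : ℚ) * m) :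
    ∃ (m : ℕ) (_ : 0 < m) (φ : A ⟶ CohB1.tensorPow L m), Mono φ := by
  haveI := EulerLib.isNoetherian_of_proper (X := X) k
  obtain ⟨a', ha'⟩ := exists_inv hA.1
  obtain ⟨m, hm, s, hs⟩ := exists_eff_sub_any k hd hA ha' hbig
  have hr := isInvertible_repCl (EulerLib.InvCl.mk L hL ^ m * a')
  haveI := CurveRR24.mono_unitDesc hr hs
  haveI : Mono (tensorMap (unitDesc (repCl (EulerLib.InvCl.mk L hL ^ m * a')) s) (𝟙 A)) :=
    EulerLib.mono_tensorMap hA.1 _
  have hc : EulerLib.InvCl.mk _ (isInvertible_tensorMod hr hA.1) =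
      EulerLib.InvCl.mk _ (isInvertible_tensorPow hL m) := by
    rw [← EulerLib.InvCl.mk_mul hr hA.1, mk_repCl, EulerLib.InvCl.mk_tensorPow hL, mul_assoc, mul_comm a', ha',
      mul_one]
  obtain ⟨e⟩ := nonempty_iso_of_mk_eq hc
  exact ⟨m, hm, (unitTensorIso A).inv ≫
    tensorMap (unitDesc (repCl (EulerLib.InvCl.mk L hL ^ m * a')) s) (𝟙 A) ≫ e.hom, inferInstance⟩

end Groth.Agent.H0Growth23

end
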