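import Groth.Agent.H0Growth23.Diff
import Groth.Prelude.Def_W4c5asymptcohfnACF
import Mathlib.Analysis.SpecificLimits.Basic
import Mathlib.Topology.Algebra.Order.LiminfLimsup
import Mathlib.Analysis.Normed.Group.Constructions

/-!
# Asymptotic cohomological functions: first properties
-/

set_option autoImplicit false
set_option linter.style.haveILetI false
set_option backward.isDefEq.respectTransparency.types false

universe u

open CategoryTheory CategoryTheory.Limits AlgebraicGeometry Filter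
open Groth.Agent.Coherent Groth.Agent.AmpleLib
open scoped Topology

noncomputable section

namespace Groth.Agent.H0Growth23

section real

variable {f g : ℕ → ℝ}

theorem limsup_le_of_tendsto (h0 : ∀ m, 0 ≤ f m) {e : ℕ → ℝ} {K : ℝ} (he : Tendsto e atTop (𝓝 K))
    (h : ∀ᶠ m in atTop, f m ≤ e m) : limsup f atTop ≤ K := by
  refine le_of_forall_pos_le_add fun η hη => ?_
  refine limsup_le_of_le (isCoboundedUnder_le_of_le atTop h0) ?_
  filter_upwards [h, he.eventually (eventually_le_nhds (show K < K + η by linarith))] with m h1 h2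
  exact h1.trans h2

theorem limsup_le_limsup_add {δ : ℝ} (hf0 : ∀ m, 0 ≤ f m) (hg : IsBoundedUnder (· ≤ ·) atTop g) {e : ℕ → ℝ}
    (he : Tendsto e atTop (𝓝 δ)) (h : ∀ᶠ m in atTop, f m ≤ g m + e m) :
    limsup f atTop ≤ limsup g atTop + δ := by
  refine le_of_forall_pos_le_add fun η hη => ?_
  refine limsup_le_of_le (isCoboundedUnder_le_of_le atTop hf0) ?_
  filter_upwards [h, he.eventually (eventually_le_nhds (show δ < δ + η / 2 by linarith)),
    eventually_lt_of_limsup_lt (show limsup g atTop < limsup g atTop + η / 2 by linarith) hg] with m h1 h2 h3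
  linarith

theorem abs_limsup_sub_le {δ : ℝ} (hf0 : ∀ m, 0 ≤ f m) (hg0 : ∀ m, 0 ≤ g m)
    (hf : IsBoundedUnder (· ≤ ·) atTop f) (hg : IsBoundedUnder (· ≤ ·) atTop g) {e : ℕ → ℝ}
    (he : Tendsto e atTop (𝓝 δ)) (h : ∀ᶠ m in atTop, |f m - g m| ≤ e m) :
    |limsup f atTop - limsup g atTop| ≤ δ := by
  have h1 := limsup_le_limsup_add hf0 hg he (h.mono fun m hm => by linarith [(abs_le.1 hm).2])
  have h2 := limsup_le_limsup_add hg0 hf he (h.mono fun m hm => by linarith [(abs_le.1 hm).1])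
  exact abs_le.2 ⟨by linarith, by linarith⟩

/-- The leading coefficient of `m ↦ m * bnd n (m S)`. -/
def bndR : ℕ → ℝ → ℝ
  | 0, _ => 0
  | n + 1, S => S ^ n

theorem bndR_nonneg (n : ℕ) {S : ℝ} (hS : 0 ≤ S) : 0 ≤ bndR n S := by
  rcases n with _ | n
  · exact le_rfl
  · exact pow_nonneg hS n

theorem tendsto_mul_bnd (n S : ℕ) :
    Tendsto (fun m : ℕ => ((m * bnd n (m * S) : ℕ) : ℝ) / (m : ℝ) ^ n) atTop (𝓝 (bndR n S)) := by
  rcases n with _ | n
  · exact tendsto_const_nhds.congr fun m => by simp [bnd, bndR]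
  · refine ((((tendsto_const_div_atTop_nhds_zero_nat (1 : ℝ)).add_const (S : ℝ)).pow n).congr'
      (eventually_atTop.2 ⟨1, fun m hm => ?_⟩)).trans (by rw [zero_add]; exact le_rfl)
    have hm' : (m : ℝ) ≠ 0 := by exact_mod_cast (show m ≠ 0 by omega)
    show _ = ((m * (1 + m * S) ^ n : ℕ) : ℝ) / (m : ℝ) ^ (n + 1)
    push_cast
    rw [show (1 : ℝ) / m + S = (1 + m * S) / m by field_simp, div_pow, pow_succ']
    field_simp

theorem tendsto_bnd_div (n S : ℕ) :
    Tendsto (fun m : ℕ => ((bnd n (m * S) : ℕ) : ℝ) / (m : ℝ) ^ n) atTop (𝓝 0) := by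
  have h := (tendsto_mul_bnd n S).mul (tendsto_const_div_atTop_nhds_zero_nat (1 : ℝ))
  rw [mul_zero] at h
  refine h.congr' (eventually_atTop.2 ⟨1, fun m hm => ?_⟩)
  have hm' : (m : ℝ) ≠ 0 := by exact_mod_cast (show m ≠ 0 by omega)
  push_cast
  field_simp

theorem tendsto_bnd_succ (n S : ℕ) :
    Tendsto (fun m : ℕ => ((bnd (n + 1) (m * S) : ℕ) : ℝ) / (m : ℝ) ^ n) atTop (𝓝 ((S : ℝ) ^ n)) := by
  refine (tendsto_mul_bnd (n + 1) S).congr' (eventually_atTop.2 ⟨1, fun m hm => ?_⟩)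
  have hm' : (m : ℝ) ≠ 0 := by exact_mod_cast (show m ≠ 0 by omega)
  push_cast
  rw [pow_succ']
  field_simp

theorem len_le_norm {r : ℕ} (a : Fin r → ℤ) : (len a : ℝ) ≤ r * ‖(fun j => ((a j : ℤ) : ℝ))‖ := by
  rw [len, Nat.cast_sum]
  refine (Finset.sum_le_sum (g := fun _ => ‖(fun j => ((a j : ℤ) : ℝ))‖) fun j _ => ?_).trans_eq (by simp)
  refine le_trans (le_of_eq ?_) (norm_le_pi_norm (fun j => ((a j : ℤ) : ℝ)) j)
  rw [Real.norm_eq_abs, Nat.cast_natAbs, Int.cast_abs]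

theorem len_nsmul {r : ℕ} (m : ℕ) (a : Fin r → ℤ) : len ((m : ℤ) • a) = m * len a := by
  rw [len, len, Finset.mul_sum]
  refine Finset.sum_congr rfl fun j _ => ?_
  rw [Pi.smul_apply, smul_eq_mul, Int.natAbs_mul, Int.natAbs_natCast]

end real

variable {X : Scheme.{u}} (k : Type u) [Field k] [X.Over (Spec (CommRingCat.of k))]

/-- The normalised sequence computing `ĥ^i` of a class. -/
def hseq (n i : ℕ) (G : X.Modules) (c : EulerLib.InvCl X) (m : ℕ) : ℝ :=
  (hh k G i (c ^ m) : ℝ) * (n.factorial : ℝ) / (m : ℝ) ^ n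

theorem hseq_nonneg (n i : ℕ) (G : X.Modules) (c : EulerLib.InvCl X) (m : ℕ) : 0 ≤ hseq k n i G c m :=
  div_nonneg (mul_nonneg (Nat.cast_nonneg _) (Nat.cast_nonneg _)) (pow_nonneg (Nat.cast_nonneg _) _)

theorem hhat_eq (n i : ℕ) (L : X.Modules) (hL : PicF.IsInvertible L) :
    W4c5asymptcohfn.hhat k X n i L =
      limsup (hseq k n i (Coh.structureModule X) (EulerLib.InvCl.mk L hL)) atTop := by
  refine congrArg (fun f => limsup f atTop) (funext fun m => ?_)
  rw [hseq, ← EulerLib.InvCl.mk_tensorPow hL, hh_structure]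

theorem hhatF_eq (n i : ℕ) (F L : X.Modules) (hL : PicF.IsInvertible L) :
    W4c5asymptcohfn.hhatF k X n i F L = limsup (hseq k n i F (EulerLib.InvCl.mk L hL)) atTop := by
  refine congrArg (fun f => limsup f atTop) (funext fun m => ?_)
  rw [W4c5asymptcohfn.cohSeq, hseq, ← EulerLib.InvCl.mk_tensorPow hL, hh_mk]

theorem zcl_pow {r : ℕ} (u : Fin r → (EulerLib.InvCl X)ˣ) (a : Fin r → ℤ) (m : ℕ) :
    zcl u a ^ m = zcl u ((m : ℤ) • a) := by
  rw [zcl, zcl, ← Units.val_pow_eq_pow_val, ← Finset.prod_pow]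
  congr 1
  refine Finset.prod_congr rfl fun j _ => ?_
  rw [← zpow_natCast, ← zpow_mul, Pi.smul_apply, smul_eq_mul, mul_comm]

variable [IsProper (X ↘ Spec (CommRingCat.of k))] [Infinite k]
variable {r : ℕ} (u : Fin r → (EulerLib.InvCl X)ˣ)

theorem exists_asymp_bounds (hproj : ∃ A : X.Modules, CohB1.IsAmple A) {G : X.Modules} (hG : Coh.IsCoh G) {n : ℕ}
    (hd : topologicalKrullDim (CohB1.support G) < ((n + 1 : ℕ) : WithBot ℕ∞)) (i : ℕ) :
    (∃ C : ℝ, 0 ≤ C ∧ ∀ a, IsBoundedUnder (· ≤ ·) atTop (hseq k n i G (zcl u a)) ∧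
      limsup (hseq k n i G (zcl u a)) atTop ≤ C * (len a : ℝ) ^ n) ∧
    ∃ C : ℝ, 0 ≤ C ∧ ∀ a b, |limsup (hseq k n i G (zcl u a)) atTop - limsup (hseq k n i G (zcl u b)) atTop| ≤
      C * (len (b - a) : ℝ) * bndR n ((len a + len (b - a) : ℕ) : ℝ) := by
  obtain ⟨C₁, hC₁⟩ := (exists_bounds k hproj u (n + 1)).1 G hG hd i
  obtain ⟨C₂, hC₂⟩ := (exists_bounds k hproj u n).2 G hG hd i
  have hup : ∀ a m, hseq k n i G (zcl u a) m ≤
      (C₁ : ℝ) * n.factorial * (((bnd (n + 1) (m * len a) : ℕ) : ℝ) / (m : ℝ) ^ n) := fun a m => by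
    have h := hC₁ ((m : ℤ) • a)
    rw [← zcl_pow, len_nsmul] at h
    rw [hseq, mul_div_assoc', mul_right_comm (C₁ : ℝ)]
    refine div_le_div_of_nonneg_right ?_ (pow_nonneg (Nat.cast_nonneg _) _)
    exact mul_le_mul_of_nonneg_right (by exact_mod_cast h) (Nat.cast_nonneg _)
  have ht : ∀ a : Fin r → ℤ, Tendsto (fun m : ℕ => (C₁ : ℝ) * n.factorial *
      (((bnd (n + 1) (m * len a) : ℕ) : ℝ) / (m : ℝ) ^ n)) atTop (𝓝 ((C₁ : ℝ) * n.factorial * (len a : ℝ) ^ n)) :=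
    fun a => (tendsto_bnd_succ n (len a)).const_mul _
  have hb : ∀ a, IsBoundedUnder (· ≤ ·) atTop (hseq k n i G (zcl u a)) := fun a =>
    (ht a).isBoundedUnder_le.mono_le (Eventually.of_forall (hup a))
  refine ⟨⟨(C₁ : ℝ) * n.factorial, by positivity, fun a => ⟨hb a,
    limsup_le_of_tendsto (hseq_nonneg k n i G _) (ht a) (Eventually.of_forall (hup a))⟩⟩,
    (C₂ : ℝ) * n.factorial, by positivity, fun a b => ?_⟩
  set D := len (b - a) with hD
  refine abs_limsup_sub_le (hseq_nonneg k n i G _) (hseq_nonneg k n i G _) (hb a) (hb b)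
    (e := fun m : ℕ => (C₂ : ℝ) * n.factorial * D * (((m * bnd n (m * (len a + D)) : ℕ) : ℝ) / (m : ℝ) ^ n))
    ((tendsto_mul_bnd n (len a + D)).const_mul _) (Eventually.of_forall fun m => ?_)
  have h := abs_sub_le_of_step (fun a => (hh k G i (zcl u a) : ℤ)) (fun N => C₂ * bnd n N)
    (fun M N h => Nat.mul_le_mul_left _ (bnd_mono n h)) hC₂ _ ((m : ℤ) • a) ((m : ℤ) • b) rfl
  rw [← smul_sub, len_nsmul, len_nsmul, ← hD, ← zcl_pow, ← zcl_pow, ← mul_add] at h
  have h' : |(hh k G i (zcl u b ^ m) : ℝ) - hh k G i (zcl u a ^ m)| ≤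
      ((m * D * (C₂ * bnd n (m * (len a + D))) : ℕ) : ℝ) := by exact_mod_cast h
  rw [hseq, hseq, ← sub_div, ← sub_mul, abs_div, abs_mul,
    abs_of_nonneg (pow_nonneg (Nat.cast_nonneg m : (0 : ℝ) ≤ m) n), Nat.abs_cast, abs_sub_comm, mul_div_assoc']
  refine div_le_div_of_nonneg_right ((mul_le_mul_of_nonneg_right h' (Nat.cast_nonneg _)).trans (le_of_eq ?_))
    (pow_nonneg (Nat.cast_nonneg _) _)
  push_cast
  ring

end Groth.Agent.H0Growth23

end
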