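import Groth.Agent.H0Growth23.Big
import Groth.Agent.AssSch12.MaxSupport
import Groth.Agent.CurveRR24.VeryAmple
import Groth.Agent.DimLib.Components

/-!
# Variation of cohomology dimensions along twists by invertible modules
-/

set_option autoImplicit false
set_option linter.style.haveILetI false
set_option backward.isDefEq.respectTransparency.types false

universe u

open CategoryTheory CategoryTheory.Limits AlgebraicGeometry TopologicalSpace Opposite
open Groth.Agent.Coherent Groth.Agent.PicLib Groth.Agent.AmpleLib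

noncomputable section

namespace Groth.Agent.H0Growth23

variable {X : Scheme.{u}} (k : Type u) [Field k] [X.Over (Spec (CommRingCat.of k))]

/-- The twist of a module by a class. -/
abbrev twCl (G : X.Modules) (c : EulerLib.InvCl X) : X.Modules := CohB1.tensorMod G (repCl c)

theorem nonempty_twCl (G : X.Modules) (L : X.Modules) (hL : PicF.IsInvertible L) :
    Nonempty (twCl G (EulerLib.InvCl.mk L hL) ≅ CohB1.tensorMod G L) := by
  obtain ⟨e⟩ := nonempty_iso_repCl L hL
  exact ⟨Coherent.tensorIso (Iso.refl _) e⟩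

theorem nonempty_twCl_mul (G : X.Modules) (a b : EulerLib.InvCl X) :
    Nonempty (CohB1.tensorMod (twCl G a) (repCl b) ≅ twCl G (a * b)) := by
  obtain ⟨e⟩ := EulerLib.exists_assocIso' G (isInvertible_repCl a) (isInvertible_repCl b)
  have hab := isInvertible_tensorMod (isInvertible_repCl a) (isInvertible_repCl b)
  obtain ⟨e'⟩ := nonempty_twCl G _ hab
  have hc : EulerLib.InvCl.mk _ hab = a * b := by
    rw [← EulerLib.InvCl.mk_mul (isInvertible_repCl a) (isInvertible_repCl b), mk_repCl, mk_repCl]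
  rw [hc] at e'
  exact ⟨e ≪≫ e'.symm⟩

/-- `h^i(G ⊗ c)`. -/
def hh (G : X.Modules) (i : ℕ) (c : EulerLib.InvCl X) : ℕ := Module.finrank k (Coh.HH X (twCl G c) i)

theorem hh_mk (G : X.Modules) (i : ℕ) (L : X.Modules) (hL : PicF.IsInvertible L) :
    hh k G i (EulerLib.InvCl.mk L hL) = Module.finrank k (Coh.HH X (CohB1.tensorMod G L) i) := by
  obtain ⟨e⟩ := nonempty_twCl G L hL
  exact CurveRR24.finrank_HH_congr k e i

theorem hh_structure (i : ℕ) (L : X.Modules) (hL : PicF.IsInvertible L) :
    hh k (Coh.structureModule X) i (EulerLib.InvCl.mk L hL) = Module.finrank k (Coh.HH X L i) := by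
  rw [hh_mk]
  exact CurveRR24.finrank_HH_congr k (unitTensorIso L) i

variable [hprop : IsProper (X ↘ Spec (CommRingCat.of k))]
include hprop

theorem isCoh_twCl {G : X.Modules} (hG : Coh.IsCoh G) (c : EulerLib.InvCl X) : Coh.IsCoh (twCl G c) := by
  haveI := EulerLib.isNoetherian_of_proper (X := X) k
  exact EulerLib.isCoh_twist (isInvertible_repCl c) hG

/-- The three long exact sequence inequalities. -/
theorem hh_triangle {S : ShortComplex X.Modules} (hS : S.ShortExact) (h1 : Coh.IsCoh S.X₁) (h2 : Coh.IsCoh S.X₂)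
    (h3 : Coh.IsCoh S.X₃) (i : ℕ) (c : EulerLib.InvCl X) :
    hh k S.X₂ i c ≤ hh k S.X₁ i c + hh k S.X₃ i c ∧
    hh k S.X₁ i c ≤ hh k S.X₂ i c + (if i = 0 then 0 else hh k S.X₃ (i - 1) c) := by
  haveI := EulerLib.isNoetherian_of_proper (X := X) k
  have hc := isInvertible_repCl c
  have hS' := EulerLib.twistSeq_shortExact hc hS
  have c1 : Coh.IsCoh (EulerLib.twistSeq S (repCl c)).X₁ := isCoh_twCl k h1 c
  have c2 : Coh.IsCoh (EulerLib.twistSeq S (repCl c)).X₂ := isCoh_twCl k h2 c
  have c3 : Coh.IsCoh (EulerLib.twistSeq S (repCl c)).X₃ := isCoh_twCl k h3 c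
  unfold hh twCl
  refine ⟨?_, ?_⟩
  · have h := LESBound.hdim_mid k _ hS' c1 c2 c3 i
    unfold LESBound.hdim at h
    exact h
  · rcases i with _ | i
    · have h := LESBound.hdim_left_zero k _ hS' c1 c2 c3
      unfold LESBound.hdim at h
      rw [if_pos rfl, add_zero]
      exact h
    · have h := LESBound.hdim_left_succ k _ hS' c1 c2 c3 i
      unfold LESBound.hdim at h
      rw [if_neg (Nat.succ_ne_zero i), Nat.add_sub_cancel]
      exact h

omit hprop in
theorem support_cokernel_mulSec {P : X.Modules} (hP : PicF.IsInvertible P) (G : X.Modules)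
    (b : Γ(P, (⊤ : X.Opens))) :
    CohB1.support (cokernel (EulerLib.mulSec G b)) ⊆ CohB1.support G ∩ (glocus P b : Set X)ᶜ := by
  intro z hz
  have hsurj : ∀ _ : Function.Surjective ((DerSch.stalkFunctor X z).map (EulerLib.mulSec G b)),
      False := fun hs => hz (subsingleton_of_forall_eq 0 fun a => by
    obtain ⟨w, rfl⟩ := (ModuleCat.epi_iff_surjective
      ((DerSch.stalkFunctor X z).map (cokernel.π (EulerLib.mulSec G b)))).1 inferInstance a
    obtain ⟨v, rfl⟩ := hs w
    rw [← ConcreteCategory.comp_apply, ← Functor.map_comp, cokernel.condition, Functor.map_zero]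
    rfl)
  refine ⟨?_, fun hg => hsurj (EulerLib.bijective_stalk_mulSec G b hg).2⟩
  by_contra hG
  refine hsurj fun w => ⟨0, ?_⟩
  have h : z ∉ CohB1.support (CohB1.tensorMod G P) := by rwa [EulerLib.support_twist hP G]
  have h' : Subsingleton ((CohB1.tensorMod G P).presheaf.stalk z) := not_not.1 h
  exact h'.elim _ _

include k in
theorem dim_cokernel_lt {P : X.Modules} (hP : PicF.IsInvertible P) {G : X.Modules} (hG : Coh.IsCoh G)
    (b : Γ(P, (⊤ : X.Opens))) (hb : AssSch.Ass G ⊆ (glocus P b : Set X)) {d : ℕ}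
    (hd : topologicalKrullDim (CohB1.support G) < ((d + 1 : ℕ) : WithBot ℕ∞)) :
    topologicalKrullDim (CohB1.support (cokernel (EulerLib.mulSec G b))) < (d : WithBot ℕ∞) := by
  haveI := EulerLib.isNoetherian_of_proper (X := X) k
  let p := X ↘ Spec (CommRingCat.of k)
  have hcl : IsClosed (CohB1.support G) := isClosed_support G (locallyFinGen_of_isFT G hG.2)
  let T : Set X := CohB1.support G ∩ (glocus P b : Set X)ᶜ
  have hT : IsClosed T := hcl.inter (glocus P b).2.isClosed_compl
  have hsub := support_cokernel_mulSec hP G b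
  refine lt_of_le_of_lt ((Topology.IsInducing.of_comp (continuous_inclusion hsub) continuous_subtype_val
      (g := (Subtype.val : T → X)) Topology.IsInducing.subtypeVal).topologicalKrullDim_le) ?_
  rw [DimLib.topologicalKrullDim_closed_eq_iSup p hcl] at hd
  rw [DimLib.topologicalKrullDim_closed_eq_iSup p hT]
  have hb' : ∀ x : T, DimLib.ptDim p x.1 < d := by
    rintro ⟨x, hxG, hxg⟩
    obtain ⟨a, ha, hax⟩ := AssSch12.exists_ass_generalization G hG.1 hxG
    have hne : a ≠ x := fun h => hxg (h ▸ hb ha)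
    have h1 := DimLib.ptDim_lt_of_specializes p hax hne
    have h2 : DimLib.ptDim p a < d + 1 := by
      exact_mod_cast lt_of_le_of_lt (le_iSup (fun x : CohB1.support G => (DimLib.ptDim p x.1 : WithBot ℕ∞))
        ⟨a, AssSch12.mem_support_of_ass G ha⟩) hd
    show DimLib.ptDim p x < d
    omega
  rcases d with _ | d
  · haveI : IsEmpty T := ⟨fun x => Nat.not_lt_zero _ (hb' x)⟩
    rw [iSup_of_empty]
    exact WithBot.bot_lt_coe _
  · refine lt_of_le_of_lt (iSup_le fun x => ?_) (show ((d : ℕ) : WithBot ℕ∞) < ((d + 1 : ℕ) : WithBot ℕ∞) by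
      exact_mod_cast Nat.lt_succ_self d)
    exact_mod_cast Nat.le_of_lt_succ (hb' x)

section avoid

variable [Infinite k]

include k in
/-- Over an infinite field a globally generated invertible module has a section generating at finitely many
given points. -/
theorem exists_glocus_superset {N : X.Modules} (hN : PicF.IsInvertible N) (hgg : Curv2.IsGloballyGenerated N)
    {S : Set X} (hS : S.Finite) : ∃ b : Γ(N, (⊤ : X.Opens)), S ⊆ (glocus N b : Set X) := by
  haveI := hS.to_subtype
  letI : Module k Γ(N, (⊤ : X.Opens)) := Module.compHom Γ(N, (⊤ : X.Opens)) (baseHom k X)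
  let p : S → Submodule k Γ(N, (⊤ : X.Opens)) := fun x =>
    { carrier := {s | N.presheaf.germ ⊤ x.1 trivial s ∈
        (IsLocalRing.maximalIdeal (X.presheaf.stalk x.1) •
          (⊤ : Submodule (X.presheaf.stalk x.1) (N.presheaf.stalk x.1)))}
      add_mem' := fun {a b} ha hb => by
        rw [Set.mem_ofPred_eq, map_add]; exact add_mem ha hb
      zero_mem' := by
        rw [Set.mem_ofPred_eq, map_zero]; exact zero_mem _
      smul_mem' := fun c a ha => by
        show N.presheaf.germ ⊤ x.1 trivial (baseHom k X c • a) ∈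
          (IsLocalRing.maximalIdeal (X.presheaf.stalk x.1) •
            (⊤ : Submodule (X.presheaf.stalk x.1) (N.presheaf.stalk x.1)))
        rw [QCohLoc.germ_smul']
        exact Submodule.smul_mem _ _ ha }
  have hp : ∀ x, p x ≠ ⊤ := fun x htop => by
    have hspan := SerreDual.span_germ_top_eq_top hgg x.1
    have hle : (⊤ : Submodule (X.presheaf.stalk x.1) (N.presheaf.stalk x.1)) ≤
        IsLocalRing.maximalIdeal (X.presheaf.stalk x.1) • ⊤ := hspan.ge.trans (Submodule.span_le.2 (by
      rintro _ ⟨s, rfl⟩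
      exact Submodule.eq_top_iff'.1 htop s))
    obtain ⟨U, hxU, g, hg⟩ := exists_isGen hN x.1
    have h3 := (EmbLib24.mem_smul_top_iff _ (EmbLib24.bijective_smul_germ hg hxU) _
      (1 : X.presheaf.stalk x.1)).1 (hle Submodule.mem_top)
    exact (IsLocalRing.maximalIdeal.isMaximal _).ne_top ((Ideal.eq_top_iff_one _).2 h3)
  obtain ⟨s, hs⟩ := Submodule.exists_forall_notMem_of_forall_ne_top p hp
  exact ⟨s, fun x hx =>
    (CurveRR24.mem_glocus_iff_germ hN _ x).2 (hs ⟨x, hx⟩)⟩

include k in
/-- Every class is a difference of classes with sections generating at given points. -/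
theorem exists_sections_diff (hproj : ∃ A : X.Modules, CohB1.IsAmple A) (c : EulerLib.InvCl X) {S : Set X}
    (hS : S.Finite) :
    ∃ (P Q : X.Modules) (hP : PicF.IsInvertible P) (hQ : PicF.IsInvertible Q),
      c * EulerLib.InvCl.mk Q hQ = EulerLib.InvCl.mk P hP ∧
      (∃ b : Γ(P, (⊤ : X.Opens)), S ⊆ (glocus P b : Set X)) ∧
      ∃ b : Γ(Q, (⊤ : X.Opens)), S ⊆ (glocus Q b : Set X) := by
  haveI := EulerLib.isNoetherian_of_proper (X := X) k
  haveI : X.IsSeparated := EulerLib.isSeparated_of_proper k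
  obtain ⟨A, hA⟩ := hproj
  obtain ⟨c', hc'⟩ := exists_inv (isInvertible_repCl c)
  rw [mk_repCl] at hc'
  obtain ⟨n₁, -, h₁⟩ := eventually_ample_and_generated hA (isInvertible_repCl c')
  obtain ⟨n₂, -, h₂⟩ := eventually_ample_and_generated hA isInvertible_structureModule
  let s := n₁ + n₂
  have hQ := isInvertible_tensorMod (isInvertible_tensorPow hA.1 s) (isInvertible_repCl c')
  have hP := isInvertible_tensorMod (isInvertible_tensorPow hA.1 s) (isInvertible_structureModule (X := X))
  refine ⟨_, _, hP, hQ, ?_, exists_glocus_superset k hP (h₂ s (Nat.le_add_left _ _)).2 hS,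
    exists_glocus_superset k hQ (h₁ s (Nat.le_add_right _ _)).2 hS⟩
  rw [← EulerLib.InvCl.mk_mul (isInvertible_tensorPow hA.1 s) (isInvertible_repCl c'), mk_repCl,
    ← EulerLib.InvCl.mk_mul (isInvertible_tensorPow hA.1 s) (isInvertible_structureModule (X := X)),
    mul_left_comm, hc']
  rfl

end avoid

/-- `N^(d-1)`, with the convention `0` for `d = 0`. -/
def bnd : ℕ → ℕ → ℕ
  | 0, _ => 0
  | d + 1, N => (1 + N) ^ d

omit hprop in
theorem bnd_mono (d : ℕ) {M N : ℕ} (h : M ≤ N) : bnd d M ≤ bnd d N := by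
  rcases d with _ | d
  · exact le_rfl
  · exact Nat.pow_le_pow_left (by omega) d

omit hprop in
theorem bnd_succ_le (d N : ℕ) : bnd d (N + 1) ≤ 2 ^ d * bnd d N := by
  rcases d with _ | d
  · exact Nat.le_refl 0
  · calc (1 + (N + 1)) ^ d ≤ (2 * (1 + N)) ^ d := Nat.pow_le_pow_left (by omega) d
      _ = 2 ^ d * (1 + N) ^ d := mul_pow _ _ _
      _ ≤ _ := Nat.mul_le_mul_right _ (Nat.pow_le_pow_right (by omega) (Nat.le_succ d))

omit hprop in
theorem mul_bnd_le (d N : ℕ) : N * bnd d N ≤ bnd (d + 1) N := by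
  rcases d with _ | d
  · exact le_of_eq_of_le (mul_zero N) (Nat.zero_le _)
  · show N * (1 + N) ^ d ≤ (1 + N) ^ (d + 1)
    rw [pow_succ']
    exact Nat.mul_le_mul_right _ (by omega)

variable {r : ℕ}

/-- The class `∏ c_j^{a_j}`. -/
def zcl (u : Fin r → (EulerLib.InvCl X)ˣ) (a : Fin r → ℤ) : EulerLib.InvCl X :=
  ((∏ j, u j ^ a j : (EulerLib.InvCl X)ˣ) : EulerLib.InvCl X)

/-- The sum of the absolute values of the exponents. -/
def len (a : Fin r → ℤ) : ℕ := ∑ j, (a j).natAbs

omit hprop in
theorem zcl_add_single (u : Fin r → (EulerLib.InvCl X)ˣ) (a : Fin r → ℤ) (j : Fin r) :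
    zcl u (a + Pi.single j 1) = zcl u a * (u j : EulerLib.InvCl X) := by
  classical
  rw [zcl, zcl, ← Units.val_mul]
  congr 1
  simp only [Pi.add_apply, zpow_add, Finset.prod_mul_distrib]
  congr 1
  rw [Finset.prod_eq_single j (fun i _ hi => by rw [Pi.single_eq_of_ne hi, zpow_zero])
    (fun h => (h (Finset.mem_univ _)).elim), Pi.single_eq_same, zpow_one]

omit hprop in
theorem len_add_single_le (a : Fin r → ℤ) (j : Fin r) (e : ℤ) : len (a + (Pi.single j e : Fin r → ℤ)) ≤ len a + e.natAbs := by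
  classical
  calc len (a + (Pi.single j e : Fin r → ℤ)) ≤ ∑ i, ((a i).natAbs + ((Pi.single j e : Fin r → ℤ) i).natAbs) :=
        Finset.sum_le_sum fun i _ => Int.natAbs_add_le _ _
    _ = len a + e.natAbs := by
      rw [Finset.sum_add_distrib]
      congr 1
      rw [Finset.sum_eq_single j (fun i _ hi => by rw [Pi.single_eq_of_ne hi]; exact Int.natAbs_zero)
        (fun h => (h (Finset.mem_univ _)).elim), Pi.single_eq_same]

omit hprop in
/-- A bound along unit steps gives one along straight paths. -/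
theorem abs_sub_le_of_step (f : (Fin r → ℤ) → ℤ) (β : ℕ → ℕ) (hβ : Monotone β)
    (hstep : ∀ a j, |f (a + Pi.single j 1) - f a| ≤ (β (len a) : ℤ)) :
    ∀ (D : ℕ) (a b : Fin r → ℤ), len (b - a) = D → |f b - f a| ≤ (D * β (len a + D) : ℕ) := by
  classical
  intro D
  induction D with
  | zero =>
    intro a b h
    obtain rfl : b = a := funext fun i => by
      have := (Finset.sum_eq_zero_iff.1 h) i (Finset.mem_univ i)
      have h2 : (b - a) i = 0 := Int.natAbs_eq_zero.1 this
      exact sub_eq_zero.1 h2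
    simp
  | succ D ih =>
    intro a b h
    obtain ⟨j, -, hj⟩ := Finset.exists_ne_zero_of_sum_ne_zero (s := Finset.univ)
      (f := fun i => ((b - a) i).natAbs) (show len (b - a) ≠ 0 by omega)
    have hj' : (b - a) j ≠ 0 := fun h0 => hj (Int.natAbs_eq_zero.2 h0)
    -- one step from `b` towards `a`
    obtain ⟨e, he, hb'⟩ : ∃ e : ℤ, e.natAbs = 1 ∧ len (b + (Pi.single j e : Fin r → ℤ) - a) = D := by
      refine ⟨if 0 < (b - a) j then -1 else 1, by split <;> rfl, ?_⟩
      set e : ℤ := if 0 < (b - a) j then -1 else 1 with he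
      have h1 : len (b + (Pi.single j e : Fin r → ℤ) - a) + 1 = len (b - a) := by
        unfold len
        rw [← Finset.add_sum_erase _ _ (Finset.mem_univ j), ← Finset.add_sum_erase _ _ (Finset.mem_univ j)]
        have hrest : ∑ i ∈ Finset.univ.erase j, ((b + (Pi.single j e : Fin r → ℤ) - a) i).natAbs =
            ∑ i ∈ Finset.univ.erase j, ((b - a) i).natAbs := Finset.sum_congr rfl fun i hi => by
          simp [Finset.ne_of_mem_erase hi]
        rw [hrest]
        have : ((b + (Pi.single j e : Fin r → ℤ) - a) j).natAbs + 1 = ((b - a) j).natAbs := by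
          simp only [Pi.sub_apply, Pi.add_apply, Pi.single_eq_same]
          simp only [Pi.sub_apply] at hj' he
          by_cases hpos : 0 < b j - a j
          · rw [if_pos hpos] at he; omega
          · rw [if_neg hpos] at he; omega
        omega
      omega
    have hih := ih a _ hb'
    have hlen : len b ≤ len a + (D + 1) := by
      rw [← h]
      calc len b ≤ ∑ i, ((a i).natAbs + ((b - a) i).natAbs) := Finset.sum_le_sum fun i _ => by
            simpa using Int.natAbs_add_le (a i) ((b - a) i)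
        _ = _ := Finset.sum_add_distrib
    have hlen' : len (b + (Pi.single j e : Fin r → ℤ)) ≤ len a + D := by
      rw [← hb']
      calc len (b + (Pi.single j e : Fin r → ℤ)) ≤ ∑ i, ((a i).natAbs + ((b + (Pi.single j e : Fin r → ℤ) - a) i).natAbs) :=
            Finset.sum_le_sum fun i _ => by simpa using Int.natAbs_add_le (a i) ((b + (Pi.single j e : Fin r → ℤ) - a) i)
        _ = _ := Finset.sum_add_distrib
    have h1 : |f b - f (b + (Pi.single j e : Fin r → ℤ))| ≤ (β (len a + (D + 1)) : ℤ) := by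
      rcases Int.natAbs_eq_iff.1 he with he | he
      · subst he
        rw [abs_sub_comm]
        exact (hstep b j).trans (by exact_mod_cast hβ hlen)
      · subst he
        have hb2 : b + (Pi.single j (-((1 : ℕ) : ℤ)) : Fin r → ℤ) + (Pi.single j (1 : ℤ) : Fin r → ℤ) = b := by
          ext i
          rcases eq_or_ne i j with rfl | hi <;> simp [*]
        have := hstep (b + (Pi.single j (-((1 : ℕ) : ℤ)) : Fin r → ℤ)) j
        rw [hb2] at this
        exact this.trans (by exact_mod_cast hβ (hlen'.trans (by omega)))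
    calc |f b - f a| ≤ |f b - f (b + (Pi.single j e : Fin r → ℤ))| + |f (b + (Pi.single j e : Fin r → ℤ)) - f a| := abs_sub_le _ _ _
      _ ≤ (β (len a + (D + 1)) : ℤ) + (D * β (len a + D) : ℕ) := add_le_add h1 hih
      _ ≤ _ := by
        have h2 : D * β (len a + D) ≤ D * β (len a + (D + 1)) := Nat.mul_le_mul_left _ (hβ (by omega))
        have h3 : β (len a + (D + 1)) + D * β (len a + (D + 1)) = (D + 1) * β (len a + (D + 1)) := by ring
        exact_mod_cast (by omega : β (len a + (D + 1)) + D * β (len a + D) ≤ (D + 1) * β (len a + (D + 1)))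

variable [Infinite k]

theorem exists_step (hproj : ∃ A : X.Modules, CohB1.IsAmple A) (u : Fin r → (EulerLib.InvCl X)ˣ) (d : ℕ)
    (hA : ∀ G : X.Modules, Coh.IsCoh G → topologicalKrullDim (CohB1.support G) < (d : WithBot ℕ∞) → ∀ i : ℕ,
      ∃ C : ℕ, ∀ a, hh k G i (zcl u a) ≤ C * bnd d (len a)) :
    ∀ G : X.Modules, Coh.IsCoh G → topologicalKrullDim (CohB1.support G) < ((d + 1 : ℕ) : WithBot ℕ∞) →
      ∀ i : ℕ, ∃ C : ℕ, ∀ a j, |(hh k G i (zcl u (a + Pi.single j 1)) : ℤ) - hh k G i (zcl u a)| ≤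
        (C * bnd d (len a) : ℕ) := by
  intro G hG hd i
  haveI := EulerLib.isNoetherian_of_proper (X := X) k
  have hAss := AssSch12.finite_ass G hG
  choose P Q hP hQ hPQ hbP hbQ using fun j => exists_sections_diff k hproj (u j : EulerLib.InvCl X) hAss
  choose bP hbP using hbP
  choose bQ hbQ using hbQ
  let CP := fun j => cokernel (EulerLib.mulSec G (bP j))
  let CQ := fun j => cokernel (EulerLib.mulSec G (bQ j))
  have hCP : ∀ j, Coh.IsCoh (CP j) := fun j => isCoh_cokernel _ hG.1 (EulerLib.isCoh_twist (hP j) hG)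
  have hCQ : ∀ j, Coh.IsCoh (CQ j) := fun j => isCoh_cokernel _ hG.1 (EulerLib.isCoh_twist (hQ j) hG)
  have hdP : ∀ j, topologicalKrullDim (CohB1.support (CP j)) < (d : WithBot ℕ∞) := fun j =>
    dim_cokernel_lt k (hP j) hG (bP j) (hbP j) hd
  have hdQ : ∀ j, topologicalKrullDim (CohB1.support (CQ j)) < (d : WithBot ℕ∞) := fun j =>
    dim_cokernel_lt k (hQ j) hG (bQ j) (hbQ j) hd
  choose α hα using fun j => hA (CP j) (hCP j) (hdP j) i
  choose α' hα' using fun j => hA (CP j) (hCP j) (hdP j) (i - 1)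
  choose γ hγ using fun j => hA (CQ j) (hCQ j) (hdQ j) i
  choose γ' hγ' using fun j => hA (CQ j) (hCQ j) (hdQ j) (i - 1)
  refine ⟨∑ j, (α j + α' j + 2 ^ d * (γ j + γ' j)), fun a j => ?_⟩
  haveI := Mumford23.mono_mulSec hG.1 (bP j) (hbP j)
  haveI := Mumford23.mono_mulSec hG.1 (bQ j) (hbQ j)
  have hSP : (ShortComplex.mk (EulerLib.mulSec G (bP j)) (cokernel.π _) (cokernel.condition _)).ShortExact :=
    { exact := ShortComplex.exact_cokernel _ }
  have hSQ : (ShortComplex.mk (EulerLib.mulSec G (bQ j)) (cokernel.π _) (cokernel.condition _)).ShortExact :=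
    { exact := ShortComplex.exact_cokernel _ }
  set c := zcl u a with hc
  have hc1 : zcl u (a + Pi.single j 1) = c * (u j : EulerLib.InvCl X) := zcl_add_single u a j
  obtain ⟨p1, p2⟩ := hh_triangle k hSP hG (EulerLib.isCoh_twist (hP j) hG) (hCP j) i c
  obtain ⟨q1, q2⟩ := hh_triangle k hSQ hG (EulerLib.isCoh_twist (hQ j) hG) (hCQ j) i (c * (u j : EulerLib.InvCl X))
  dsimp only at p1 p2 q1 q2
  -- both middle terms are `G ⊗ P ⊗ c`
  have hmid : hh k (CohB1.tensorMod G (P j)) i c =
      hh k (CohB1.tensorMod G (Q j)) i (c * (u j : EulerLib.InvCl X)) := by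
    have key : ∀ (R : X.Modules) (hR : PicF.IsInvertible R) (e : EulerLib.InvCl X),
        hh k (CohB1.tensorMod G R) i e = hh k G i (EulerLib.InvCl.mk R hR * e) := by
      intro R hR e
      obtain ⟨e₁⟩ := nonempty_twCl G R hR
      obtain ⟨e₂⟩ := nonempty_twCl_mul G (EulerLib.InvCl.mk R hR) e
      exact CurveRR24.finrank_HH_congr k (Coherent.tensorIso e₁.symm (Iso.refl _) ≪≫ e₂) i
    rw [key _ (hP j), key _ (hQ j), ← hPQ j]
    congr 1
    ac_rfl
  have hb : ∀ (C : ℕ) {x : ℕ}, x ≤ C * bnd d (len (a + Pi.single j 1)) → x ≤ 2 ^ d * C * bnd d (len a) :=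
    fun C x h => h.trans (le_trans (Nat.mul_le_mul_left _ ((bnd_mono d (len_add_single_le a j 1)).trans (bnd_succ_le d _)))
      (le_of_eq (by ring)))
  have a1 := hα j a
  have a2 := hα' j a
  have g1 := hb _ (hγ j (a + Pi.single j 1))
  have g2 := hb _ (hγ' j (a + Pi.single j 1))
  rw [hc1] at g1 g2 ⊢
  rw [← hc] at a1 a2
  have hS : (α j + α' j + 2 ^ d * (γ j + γ' j)) * bnd d (len a) ≤
      (∑ j, (α j + α' j + 2 ^ d * (γ j + γ' j))) * bnd d (len a) :=
    Nat.mul_le_mul_right _ (Finset.single_le_sum (f := fun j => α j + α' j + 2 ^ d * (γ j + γ' j))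
      (fun _ _ => Nat.zero_le _) (Finset.mem_univ j))
  generalize (∑ j, (α j + α' j + 2 ^ d * (γ j + γ' j))) = T at hS ⊢
  simp only [add_mul, mul_add] at hS
  have hi1 : (if i = 0 then 0 else hh k (CP j) (i - 1) c) ≤ hh k (CP j) (i - 1) c := by split <;> omega
  have hi2 : (if i = 0 then 0 else hh k (CQ j) (i - 1) (c * (u j : EulerLib.InvCl X))) ≤
      hh k (CQ j) (i - 1) (c * (u j : EulerLib.InvCl X)) := by split <;> omega
  rw [abs_le]
  simp only [CP, CQ] at *
  constructor <;> omega

/-- Twisting once changes `h^i` by a quantity of lower order; `h^i` itself is bounded by the dimension of the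
support. -/
theorem exists_bounds (hproj : ∃ A : X.Modules, CohB1.IsAmple A) (u : Fin r → (EulerLib.InvCl X)ˣ) :
    ∀ d : ℕ,
      (∀ G : X.Modules, Coh.IsCoh G → topologicalKrullDim (CohB1.support G) < (d : WithBot ℕ∞) → ∀ i : ℕ,
        ∃ C : ℕ, ∀ a, hh k G i (zcl u a) ≤ C * bnd d (len a)) ∧
      (∀ G : X.Modules, Coh.IsCoh G → topologicalKrullDim (CohB1.support G) < ((d + 1 : ℕ) : WithBot ℕ∞) →
        ∀ i : ℕ, ∃ C : ℕ, ∀ a j, |(hh k G i (zcl u (a + Pi.single j 1)) : ℤ) - hh k G i (zcl u a)| ≤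
          (C * bnd d (len a) : ℕ)) := by
  haveI := EulerLib.isNoetherian_of_proper (X := X) k
  intro d
  induction d with
  | zero =>
    have hA : ∀ G : X.Modules, Coh.IsCoh G → topologicalKrullDim (CohB1.support G) < ((0 : ℕ) : WithBot ℕ∞) →
        ∀ i : ℕ, ∃ C : ℕ, ∀ a, hh k G i (zcl u a) ≤ C * bnd 0 (len a) := fun G _ hd i => ⟨0, fun a => by
      have h0 : CohB1.support G = ∅ := by
        by_contra hne
        obtain ⟨x₀, hx₀⟩ := Set.nonempty_iff_ne_empty.2 hne
        haveI : Nonempty (TopologicalSpace.IrreducibleCloseds (CohB1.support G)) :=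
          ⟨⟨closure {(⟨x₀, hx₀⟩ : CohB1.support G)}, isIrreducible_singleton.closure, isClosed_closure⟩⟩
        exact not_lt.2 (Order.krullDim_nonneg (α := TopologicalSpace.IrreducibleCloseds (CohB1.support G)))
          (by exact_mod_cast hd)
      haveI : Subsingleton (Coh.HH X (twCl G (zcl u a)) i) := EulerLib.subsingleton_HH_of_isZero
        (EulerLib.isZero_of_support_eq_empty ((EulerLib.support_twist (isInvertible_repCl _) G).trans h0)) i
      exact le_of_eq_of_le Module.finrank_zero_of_subsingleton (Nat.zero_le _)⟩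
    exact ⟨hA, exists_step k hproj u 0 hA⟩
  | succ d ih =>
    have hA : ∀ G : X.Modules, Coh.IsCoh G → topologicalKrullDim (CohB1.support G) < ((d + 1 : ℕ) : WithBot ℕ∞) →
        ∀ i : ℕ, ∃ C : ℕ, ∀ a, hh k G i (zcl u a) ≤ C * bnd (d + 1) (len a) := fun G hG hd i => by
      obtain ⟨C, hC⟩ := ih.2 G hG hd i
      refine ⟨hh k G i (zcl u 0) + C, fun a => ?_⟩
      have h := abs_sub_le_of_step (fun a => (hh k G i (zcl u a) : ℤ)) (fun N => C * bnd d N)
        (fun M N h => Nat.mul_le_mul_left _ (bnd_mono d h)) hC (len (a - 0)) 0 a rfl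
      have hl : len (0 : Fin r → ℤ) = 0 := Finset.sum_eq_zero fun i _ => rfl
      rw [sub_zero, hl, zero_add] at h
      have h' := (le_abs_self _).trans h
      have h1 : 1 ≤ bnd (d + 1) (len a) := Nat.one_le_pow _ _ (by omega)
      have h2 : len a * (C * bnd d (len a)) ≤ C * bnd (d + 1) (len a) := by
        rw [mul_left_comm]
        exact Nat.mul_le_mul_left _ (mul_bnd_le d _)
      have h3 : hh k G i (zcl u 0) ≤ hh k G i (zcl u 0) * bnd (d + 1) (len a) := Nat.le_mul_of_pos_right _ h1
      rw [add_mul]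
      omega
    exact ⟨hA, exists_step k hproj u (d + 1) hA⟩

end Groth.Agent.H0Growth23

end
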