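import Groth.Agent.H0Growth23.Big
import Mathlib.Analysis.SpecificLimits.Basic
import Mathlib.Topology.Algebra.Order.LiminfLimsup
import Mathlib.Topology.Instances.ENNReal.Lemmas
import Mathlib.Analysis.Normed.Field.Lemmas

/-!
# Upper and lower limits of normalised counting functions
-/

set_option autoImplicit false

open Filter Topology
open scoped ENNReal

noncomputable section

namespace Groth.Agent.H0Growth23

variable (f : ℕ → ℕ) (d : ℕ)

/-- `f m / m^d`. -/
def ratio : ℕ → ℝ≥0∞ := fun m => (f m : ℝ≥0∞) / (m : ℝ≥0∞) ^ d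

theorem ratio_eq_ofReal {m : ℕ} (hm : 1 ≤ m) : ratio f d m = ENNReal.ofReal ((f m : ℝ) / (m : ℝ) ^ d) := by
  rw [ENNReal.ofReal_div_of_pos (by positivity), ENNReal.ofReal_natCast, ENNReal.ofReal_pow (Nat.cast_nonneg _),
    ENNReal.ofReal_natCast]
  rfl

theorem big_of_limsup_pos (h : 0 < limsup (ratio f d) atTop) :
    ∀ C : ℚ, ∃ m : ℕ, 1 ≤ m ∧ C * (m : ℚ) ^ d < (f m : ℚ) * m := by
  intro C
  by_contra hc
  push Not at hc
  refine h.ne' (le_antisymm ?_ zero_le)
  have ht : Tendsto (fun m : ℕ => ENNReal.ofReal ((C : ℝ) / m)) atTop (𝓝 0) := by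
    rw [← ENNReal.ofReal_zero]
    exact ENNReal.tendsto_ofReal (tendsto_const_div_atTop_nhds_zero_nat _)
  rw [← ht.limsup_eq]
  refine limsup_le_limsup (eventually_atTop.2 ⟨1, fun m hm => ?_⟩)
  show ratio f d m ≤ _
  rw [ratio_eq_ofReal f d hm]
  refine ENNReal.ofReal_le_ofReal ?_
  rw [div_le_div_iff₀ (by positivity) (by positivity)]
  exact_mod_cast hc m hm

theorem liminf_pos_of_lower {c : ℚ} (hc : 0 < c) {N : ℕ} (h : ∀ m : ℕ, N ≤ m → c * (m : ℚ) ^ d ≤ (f m : ℚ)) :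
    0 < liminf (ratio f d) atTop := by
  refine lt_of_lt_of_le (ENNReal.ofReal_pos.2 (show (0 : ℝ) < (c : ℝ) by exact_mod_cast hc)) ?_
  refine le_liminf_of_le (by isBoundedDefault) (eventually_atTop.2 ⟨max N 1, fun m hm => ?_⟩)
  rw [ratio_eq_ofReal f d (le_of_max_le_right hm)]
  refine ENNReal.ofReal_le_ofReal ?_
  rw [le_div_iff₀ (pow_pos (by exact_mod_cast (show 0 < m by omega)) d)]
  exact_mod_cast h m (le_of_max_le_left hm)

theorem limsup_mul_eq {a : ℕ} (ha : 0 < a)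
    (hshift : ∃ K : ℕ, ∀ m : ℕ, ∃ q : ℕ, m ≤ a * q ∧ a * q ≤ m + K ∧ f m ≤ f (a * q)) :
    limsup (ratio (fun m => f (a * m)) d) atTop = (a : ℝ≥0∞) ^ d * limsup (ratio f d) atTop := by
  have hat : (a : ℝ≥0∞) ^ d ≠ ∞ := ENNReal.pow_ne_top (ENNReal.natCast_ne_top a)
  have heq : ratio (fun m => f (a * m)) d =ᶠ[atTop] fun m => (a : ℝ≥0∞) ^ d * ratio f d (a * m) :=
    eventually_atTop.2 ⟨1, fun m hm => by
      have hpos : 1 ≤ a * m := Nat.mul_pos ha hm
      show _ = (a : ℝ≥0∞) ^ d * ratio f d (a * m)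
      rw [ratio_eq_ofReal _ d hm, ratio_eq_ofReal f d hpos, ← ENNReal.ofReal_natCast a,
        ← ENNReal.ofReal_pow (Nat.cast_nonneg _), ← ENNReal.ofReal_mul (by positivity)]
      congr 1
      have h1 : (m : ℝ) ^ d ≠ 0 := pow_ne_zero _ (by exact_mod_cast (show m ≠ 0 by omega))
      have h2 : (a : ℝ) ^ d ≠ 0 := pow_ne_zero _ (by exact_mod_cast ha.ne')
      push_cast
      rw [mul_pow]
      field_simp⟩
  rw [limsup_congr heq, ENNReal.limsup_const_mul_of_ne_top hat]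
  congr 1
  have hta : Tendsto (fun m : ℕ => a * m) atTop atTop :=
    tendsto_atTop_mono (fun m => Nat.le_mul_of_pos_left m ha) tendsto_id
  refine le_antisymm ?_ ?_
  · exact (limsup_comp (ratio f d) (fun m : ℕ => a * m) atTop).trans_le (limsup_le_limsup_of_le hta)
  · obtain ⟨K, hK⟩ := hshift
    refine le_of_forall_gt_imp_ge_of_dense fun b hb => ?_
    rcases eq_or_ne b ∞ with rfl | hbtop
    · exact le_top
    obtain ⟨N, hN⟩ := eventually_atTop.1 (eventually_lt_of_limsup_lt hb)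
    have hs : Tendsto (fun m : ℕ => b * ENNReal.ofReal ((1 + (K : ℝ) / m) ^ d)) atTop (𝓝 b) := by
      have h1 : Tendsto (fun m : ℕ => (1 + (K : ℝ) / m) ^ d) atTop (𝓝 1) := by
        simpa using ((tendsto_const_div_atTop_nhds_zero_nat (K : ℝ)).const_add (1 : ℝ)).pow d
      simpa using ENNReal.Tendsto.const_mul (ENNReal.tendsto_ofReal h1) (Or.inr hbtop)
    rw [← hs.limsup_eq]
    refine limsup_le_limsup (eventually_atTop.2 ⟨max (a * N) 1, fun m hm => ?_⟩)
    obtain ⟨q, hq1, hq2, hfq⟩ := hK m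
    have hm1 : 1 ≤ m := le_of_max_le_right hm
    have hqN : N ≤ q := Nat.le_of_mul_le_mul_left ((le_of_max_le_left hm).trans hq1) ha
    have hr : ratio f d (a * q) ≤ b := (hN q hqN).le
    show ratio f d m ≤ b * _
    refine le_trans ?_ (mul_le_mul' hr le_rfl)
    rw [ratio_eq_ofReal f d hm1, ratio_eq_ofReal f d (show 1 ≤ a * q by omega),
      ← ENNReal.ofReal_mul (by positivity)]
    refine ENNReal.ofReal_le_ofReal ?_
    have hmr : (0 : ℝ) < m := by exact_mod_cast hm1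
    have haq : (0 : ℝ) < ((a * q : ℕ) : ℝ) := by exact_mod_cast (show 0 < a * q by omega)
    calc (f m : ℝ) / (m : ℝ) ^ d ≤ (f (a * q) : ℝ) / (m : ℝ) ^ d := by gcongr
      _ = (f (a * q) : ℝ) / ((a * q : ℕ) : ℝ) ^ d * (((a * q : ℕ) : ℝ) / m) ^ d := by
          rw [div_pow, div_mul_div_comm, mul_comm (((a * q : ℕ) : ℝ) ^ d) _, mul_div_mul_right _ _ (pow_ne_zero _ haq.ne')]
      _ ≤ _ := by
          gcongr
          rw [div_le_iff₀ hmr, add_mul, one_mul, div_mul_cancel₀ _ hmr.ne']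
          exact_mod_cast hq2

end Groth.Agent.H0Growth23

end
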