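import Groth.Agent.H0Growth23.Pullback
import Groth.Agent.EulerLib.SupportVanishing
import Groth.Agent.EulerLib.HilbPoly
import Groth.Agent.Mumford23.Section
import Mathlib.Analysis.Polynomial.Basic

/-!
# Cohomology of negative twists
-/

set_option autoImplicit false
set_option linter.style.haveILetI false
set_option linter.unusedSectionVars false
set_option backward.isDefEq.respectTransparency.types false

universe u

open CategoryTheory CategoryTheory.Limits AlgebraicGeometry TopologicalSpace Opposite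
open Groth.Agent.Coherent Groth.Agent.PicLib Groth.Agent.AmpleLib Groth.Agent.EulerLib

noncomputable section

namespace Groth.Agent.H0Growth23

variable {X : Scheme.{u}} (k : Type u) [Field k] [X.Over (Spec (CommRingCat.of k))]
  [IsProper (X ↘ Spec (CommRingCat.of k))]

theorem hh_eq_zero_of_dim {G : X.Modules} (hG : Coh.IsCoh G) {q : ℕ}
    (h : topologicalKrullDim (CohB1.support G) < q) (c : InvCl X) : hh k G q c = 0 := by
  haveI := EulerLib.isNoetherian_of_proper (X := X) k
  haveI : X.IsSeparated := EulerLib.isSeparated_of_proper k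
  haveI : Subsingleton (Coh.HH X (twCl G c) q) := EulerLib.subsingleton_HH_of_support
    ⟨_, isClosed_support G (locallyFinGen_of_isFT G hG.2)⟩ _ (isCoh_twCl k hG c).1
    (EulerLib.support_twist (isInvertible_repCl c) G).le q h
  exact Module.finrank_zero_of_subsingleton

/-- `h^q` of negative twists grows at most like the `q`-th power. -/
theorem exists_neg_bound {A : X.Modules} (hA : PicF.IsInvertible A)
    (hsec : ∀ S : Set X, S.Finite → ∃ b : Γ(A, (⊤ : X.Opens)), S ⊆ (glocus A b : Set X))
    {a' : InvCl X} (ha' : InvCl.mk A hA * a' = 1) :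
    ∀ (d : ℕ) (G : X.Modules), Coh.IsCoh G → topologicalKrullDim (CohB1.support G) < (d : WithBot ℕ∞) →
      ∀ q : ℕ, ∃ C : ℕ, ∀ m : ℕ, hh k G q (a' ^ m) ≤ C * (m + 1) ^ q := by
  haveI := EulerLib.isNoetherian_of_proper (X := X) k
  intro d
  induction d with
  | zero =>
    intro G hG hdim q
    exact ⟨0, fun m => le_of_eq_of_le (hh_eq_zero_of_dim k hG
      (hdim.trans_le (by exact_mod_cast Nat.zero_le q)) _) (Nat.zero_le _)⟩
  | succ d ih =>
    intro G hG hdim q
    obtain ⟨b, hb⟩ := hsec _ (AssSch12.finite_ass G hG)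
    haveI := Mumford23.mono_mulSec hG.1 b hb
    have hGA := EulerLib.isCoh_twist hA hG
    have hQ : Coh.IsCoh (cokernel (mulSec G b)) := isCoh_cokernel _ hG.1 hGA
    have hS : (ShortComplex.mk (mulSec G b) (cokernel.π _) (cokernel.condition _)).ShortExact :=
      { exact := ShortComplex.exact_cokernel _ }
    have hstep : ∀ m : ℕ, hh k G q (a' ^ (m + 1)) ≤
        hh k G q (a' ^ m) + (if q = 0 then 0 else hh k (cokernel (mulSec G b)) (q - 1) (a' ^ (m + 1))) := fun m => by
      have h := (hh_triangle k hS hG hGA hQ q (a' ^ (m + 1))).2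
      dsimp only at h
      rwa [hh_tensor k hA, pow_succ', ← mul_assoc, ha', one_mul, ← pow_succ'] at h
    rcases q with _ | q
    · refine ⟨hh k G 0 (a' ^ 0), fun m => ?_⟩
      rw [pow_zero (m + 1), mul_one]
      induction m with
      | zero => exact le_rfl
      | succ m ihm => exact le_trans (by simpa using hstep m) ihm
    · obtain ⟨C, hC⟩ := ih _ hQ (dim_cokernel_lt k hA hG b hb hdim) q
      refine ⟨hh k G (q + 1) (a' ^ 0) + C, fun m => ?_⟩
      induction m with
      | zero => simp
      | succ m ihm =>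
        have h1 := hstep m
        rw [if_neg (Nat.succ_ne_zero q), Nat.add_sub_cancel] at h1
        refine h1.trans ((add_le_add ihm (hC (m + 1))).trans ?_)
        calc (hh k G (q + 1) (a' ^ 0) + C) * (m + 1) ^ (q + 1) + C * (m + 1 + 1) ^ q
            ≤ (hh k G (q + 1) (a' ^ 0) + C) * (m + 1) * (m + 1 + 1) ^ q +
                (hh k G (q + 1) (a' ^ 0) + C) * (m + 1 + 1) ^ q := by
              rw [pow_succ', ← mul_assoc]
              exact add_le_add (Nat.mul_le_mul_left _ (Nat.pow_le_pow_left (by omega) q))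
                (Nat.mul_le_mul_right _ (Nat.le_add_left C _))
          _ = _ := by ring

theorem interDeg_inv {a a' : InvCl X} (ha : a * a' = 1) :
    ∀ (d : ℕ) (φ : InvCl X → ℤ), ClDeg (d + 1) φ →
      interDeg (fun _ : Fin d => a') φ = (-1) ^ d * interDeg (fun _ : Fin d => a) φ
  | 0, φ, _ => by rw [interDeg_zero, interDeg_zero, pow_zero, one_mul]
  | d + 1, φ, h => by
    have hc : ∀ b : InvCl X, (fun _ : Fin (d + 1) => b) = Fin.cons b (fun _ : Fin d => b) := fun b => by
      funext i
      induction i using Fin.cases <;> rfl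
    have hl := interDeg_mul a a' (fun _ : Fin d => a) h
    rw [ha, interDeg_one] at hl
    rw [hc a', interDeg_cons, interDeg_inv ha d _ (h.diff a'), ← interDeg_cons, hc a,
      show interDeg (Fin.cons a' fun _ : Fin d => a) φ = -interDeg (Fin.cons a fun _ : Fin d => a) φ by linarith,
      pow_succ]
    ring

/-- Some negative twist has cohomology in the top degree of the support. -/
theorem exists_neg_twist_top {A : X.Modules} (hA : CohB1.IsAmple A)
    (hsec : ∀ S : Set X, S.Finite → ∃ b : Γ(A, (⊤ : X.Opens)), S ⊆ (glocus A b : Set X))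
    {a' : InvCl X} (ha' : InvCl.mk A hA.1 * a' = 1) {G : X.Modules} (hG : Coh.IsCoh G) {d : ℕ} (hd1 : 1 ≤ d)
    (hd : topologicalKrullDim (CohB1.support G) = (d : WithBot ℕ∞)) :
    ∃ m : ℕ, hh k G d (a' ^ m) ≠ 0 := by
  haveI := EulerLib.isNoetherian_of_proper (X := X) k
  by_contra hne
  push Not at hne
  have hd' : topologicalKrullDim (CohB1.support G) < ((d + 1 : ℕ) : WithBot ℕ∞) :=
    hd.trans_lt (by exact_mod_cast Nat.lt_succ_self d)
  choose C hC using fun q => exists_neg_bound k hA.1 hsec ha' (d + 1) G hG hd' q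
  let R := repCl a'
  have hR := isInvertible_repCl a'
  obtain ⟨P, hP⟩ := exists_isHilbPoly k hR hG hd.le
  obtain ⟨hdeg, hα⟩ := alpha_eq_interDeg k hR hG hP hd.le
  rw [mk_repCl, interDeg_inv ha' d _ (finDeg_chiCl k hG hd')] at hα
  have hpos := interDeg_pos k d (fun _ => A) (fun _ => hA) G hG hd
  have hcoef : P.coeff d ≠ 0 := fun h0 => by
    rw [StabCat.alpha, h0, mul_zero] at hα
    have h1 : ((-1 : ℤ) ^ d * interDeg (fun _ : Fin d => InvCl.mk A hA.1) (chiCl k G)) = 0 := by exact_mod_cast hα.symm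
    rcases mul_eq_zero.1 h1 with h | h
    · exact pow_ne_zero _ (by norm_num) h
    · omega
  have hbound : ∀ m : ℕ, |P.eval (m : ℚ)| ≤ ((∑ q ∈ Finset.range d, C q : ℕ) : ℚ) * ((m : ℚ) + 1) ^ (d - 1) := fun m => by
    rw [← hP m, ShStab.twist]
    have hc : Curv2.euler k X (CohB1.tensorMod G (CohB1.tensorPow R m)) =
        ∑ q ∈ Finset.range (d + 1), (-1 : ℤ) ^ q * (hh k G q (a' ^ m) : ℤ) := by
      have hR' : InvCl.mk _ (isInvertible_tensorPow hR m) = a' ^ m := by rw [InvCl.mk_tensorPow hR, mk_repCl]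
      rw [euler_eq_sum k X _ d fun q hq => Mumford23.subsingleton_of_finrank_eq_zero k
        (EulerLib.isCoh_twist (isInvertible_tensorPow hR m) hG) q
        (by rw [← hh_mk k G q _ (isInvertible_tensorPow hR m), hR']
            exact hh_eq_zero_of_dim k hG (hd.trans_lt (by exact_mod_cast hq)) _)]
      refine Finset.sum_congr rfl fun q _ => ?_
      rw [← hh_mk k G q _ (isInvertible_tensorPow hR m), hR']
    rw [hc, Finset.sum_range_succ, hne m, Nat.cast_zero, mul_zero, add_zero, Int.cast_sum]
    refine (Finset.abs_sum_le_sum_abs _ _).trans ?_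
    rw [Nat.cast_sum, Finset.sum_mul]
    refine Finset.sum_le_sum fun q hq => ?_
    rw [Int.cast_mul, abs_mul, Int.cast_pow, abs_pow, Int.cast_neg, Int.cast_one, abs_neg, abs_one, one_pow, one_mul,
      Int.cast_natCast, Nat.abs_cast]
    have h1 : (hh k G q (a' ^ m) : ℚ) ≤ (C q : ℚ) * ((m : ℚ) + 1) ^ q := by exact_mod_cast hC q m
    refine h1.trans (mul_le_mul_of_nonneg_left (pow_le_pow_right₀ (by linarith [(Nat.cast_nonneg m : (0 : ℚ) ≤ m)]) ?_)
      (Nat.cast_nonneg _))
    have := Finset.mem_range.1 hq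
    omega
  generalize ((∑ q ∈ Finset.range d, C q : ℕ) : ℚ) = T at hbound
  have hPd : P.natDegree = d := le_antisymm hdeg (Polynomial.le_natDegree_of_ne_zero hcoef)
  let Q : Polynomial ℚ := Polynomial.C T * (Polynomial.X + 1) ^ (d - 1)
  have hlt : Q.degree < P.degree := by
    refine lt_of_le_of_lt (Polynomial.degree_le_natDegree.trans ?_)
      (show ((d - 1 : ℕ) : WithBot ℕ) < P.degree by
        rw [Polynomial.degree_eq_natDegree (fun h => hcoef (by rw [h]; simp)), hPd]
        exact_mod_cast Nat.sub_lt hd1 one_pos)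
    exact_mod_cast (Polynomial.natDegree_C_mul_le _ _).trans (Polynomial.natDegree_pow_le.trans (by
      rw [show (Polynomial.X + 1 : Polynomial ℚ).natDegree = 1 by
        rw [← Polynomial.C_1, Polynomial.natDegree_X_add_C], mul_one]))
  have ht := (Polynomial.div_tendsto_zero_of_degree_lt Q P hlt).comp tendsto_natCast_atTop_atTop
  obtain ⟨M, hM⟩ := Filter.eventually_atTop.1 ((ht.eventually (eventually_abs_sub_lt (0 : ℚ) (show (0:ℚ) < 1/2 by norm_num))).and
    ((Polynomial.eventually_atTop_not_isRoot P (fun h => hcoef (by rw [h]; simp))).natCast_atTop))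
  obtain ⟨h1, h2⟩ := hM M le_rfl
  have h3 := hbound M
  have h4 : Q.eval (M : ℚ) = T * ((M : ℚ) + 1) ^ (d - 1) := by simp [Q]
  simp only [Function.comp_apply, sub_zero, h4, abs_div] at h1
  have h5 : 0 < |P.eval (M : ℚ)| := abs_pos.2 h2
  rw [div_lt_iff₀ h5] at h1
  nlinarith [le_abs_self (T * ((M : ℚ) + 1) ^ (d - 1))]

end Groth.Agent.H0Growth23

end
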