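import Groth.Agent.H0Growth23.Ztwist

/-!
# Modules with small support do not contribute
-/

set_option autoImplicit false
set_option linter.style.haveILetI false
set_option backward.isDefEq.respectTransparency.types false

universe u

open CategoryTheory CategoryTheory.Limits AlgebraicGeometry Filter
open Groth.Agent.Coherent Groth.Agent.AmpleLib
open scoped Topology

noncomputable section

namespace Groth.Agent.H0Growth23

section real

variable {f g : ℕ → ℝ}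

theorem limsup_eq_of_tendsto_zero (hf0 : ∀ m, 0 ≤ f m) (hg0 : ∀ m, 0 ≤ g m)
    (hg : IsBoundedUnder (· ≤ ·) atTop g) {e : ℕ → ℝ} (he : Tendsto e atTop (𝓝 0))
    (h : ∀ᶠ m in atTop, |f m - g m| ≤ e m) : limsup f atTop = limsup g atTop := by
  obtain ⟨B, hB⟩ := hg
  rw [eventually_map] at hB
  have hf : IsBoundedUnder (· ≤ ·) atTop f := by
    refine ⟨B + 1, eventually_map.2 ?_⟩
    filter_upwards [h, hB, he.eventually (eventually_le_nhds (show (0 : ℝ) < 1 by norm_num))] with m h1 h2 h3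
    linarith [(abs_le.1 h1).2]
  have := abs_limsup_sub_le hf0 hg0 hf ⟨B, eventually_map.2 hB⟩ he h
  exact sub_eq_zero.1 (abs_eq_zero.1 (le_antisymm this (abs_nonneg _)))

end real

variable {X : Scheme.{u}} (k : Type u) [Field k] [X.Over (Spec (CommRingCat.of k))]
  [IsProper (X ↘ Spec (CommRingCat.of k))]

theorem hh_right {S : ShortComplex X.Modules} (hS : S.ShortExact) (h1 : Coh.IsCoh S.X₁) (h2 : Coh.IsCoh S.X₂)
    (h3 : Coh.IsCoh S.X₃) (i : ℕ) (c : EulerLib.InvCl X) :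
    hh k S.X₃ i c ≤ hh k S.X₂ i c + hh k S.X₁ (i + 1) c := by
  haveI := EulerLib.isNoetherian_of_proper (X := X) k
  have hS' := EulerLib.twistSeq_shortExact (isInvertible_repCl c) hS
  have c1 : Coh.IsCoh (EulerLib.twistSeq S (repCl c)).X₁ := isCoh_twCl k h1 c
  have c2 : Coh.IsCoh (EulerLib.twistSeq S (repCl c)).X₂ := isCoh_twCl k h2 c
  have c3 : Coh.IsCoh (EulerLib.twistSeq S (repCl c)).X₃ := isCoh_twCl k h3 c
  unfold hh twCl
  show LESBound.hdim k (EulerLib.twistSeq S (repCl c)).X₃ i ≤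
    LESBound.hdim k (EulerLib.twistSeq S (repCl c)).X₂ i + LESBound.hdim k (EulerLib.twistSeq S (repCl c)).X₁ (i + 1)
  haveI := finCoh_of_isProper (X ↘ Spec (CommRingCat.of k)) _ c1 (i + 1)
  haveI := finCoh_of_isProper (X ↘ Spec (CommRingCat.of k)) _ c2 i
  haveI := finCoh_of_isProper (X ↘ Spec (CommRingCat.of k)) _ c3 i
  simp only [LESBound.hdim_eq]
  exact LESBound.finrank_le_add (postA (baseHom k X) (EulerLib.twistSeq S (repCl c)).g ⊤ i)
    (deltaA (baseHom k X) hS' ⊤ i) (exact_postA_deltaA _ hS' ⊤ i)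

variable [Infinite k]

theorem tendsto_hseq_small (hproj : ∃ A : X.Modules, CohB1.IsAmple A) {G : X.Modules} (hG : Coh.IsCoh G) {n : ℕ}
    (hd : topologicalKrullDim (CohB1.support G) < (n : WithBot ℕ∞)) (L : X.Modules) (hL : PicF.IsInvertible L)
    (i : ℕ) : Tendsto (hseq k n i G (EulerLib.InvCl.mk L hL)) atTop (𝓝 0) := by
  obtain ⟨M, hM⟩ := VarietyLib.exists_isInverseOf hL
  obtain ⟨u, hu, -⟩ := exists_unit hL hM
  obtain ⟨C, hC⟩ := (exists_bounds k hproj ![u] n).1 G hG hd i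
  have hc : ∀ m : ℕ, EulerLib.InvCl.mk L hL ^ m = zcl ![u] ![(m : ℤ)] := fun m => by
    simp [zcl, hu, zpow_natCast]
  refine squeeze_zero (g := fun m : ℕ => (C : ℝ) * n.factorial * (((bnd n (m * 1) : ℕ) : ℝ) / (m : ℝ) ^ n))
    (hseq_nonneg k n i G _) (fun m => ?_) ?_
  · have h := hC ![(m : ℤ)]
    rw [← hc, show len ![(m : ℤ)] = m * 1 by simp [len]] at h
    rw [hseq, mul_div_assoc', mul_right_comm (C : ℝ)]
    exact div_le_div_of_nonneg_right (mul_le_mul_of_nonneg_right (by exact_mod_cast h) (Nat.cast_nonneg _))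
      (pow_nonneg (Nat.cast_nonneg _) _)
  · simpa using (tendsto_bnd_div n 1).const_mul ((C : ℝ) * n.factorial)

theorem isBoundedUnder_hseq (hproj : ∃ A : X.Modules, CohB1.IsAmple A) {G : X.Modules} (hG : Coh.IsCoh G) {n : ℕ}
    (hd : topologicalKrullDim (CohB1.support G) < ((n + 1 : ℕ) : WithBot ℕ∞)) (L : X.Modules)
    (hL : PicF.IsInvertible L) (i : ℕ) : IsBoundedUnder (· ≤ ·) atTop (hseq k n i G (EulerLib.InvCl.mk L hL)) := by
  obtain ⟨M, hM⟩ := VarietyLib.exists_isInverseOf hL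
  obtain ⟨u, hu, -⟩ := exists_unit hL hM
  obtain ⟨⟨C, -, hC⟩, -⟩ := exists_asymp_bounds k ![u] hproj hG hd i
  have hc : zcl ![u] ![(1 : ℤ)] = EulerLib.InvCl.mk L hL := by simp [zcl, hu]
  rw [← hc]
  exact (hC _).1

theorem dim_lt_succ_of_dim_eq {n : ℕ} (hn : topologicalKrullDim X = n) (G : X.Modules) :
    topologicalKrullDim (CohB1.support G) < ((n + 1 : ℕ) : WithBot ℕ∞) :=
  lt_of_le_of_lt ((Topology.IsInducing.subtypeVal.topologicalKrullDim_le).trans hn.le)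
    (by exact_mod_cast Nat.lt_succ_self n)

theorem hhatF_mid_eq_right (hproj : ∃ A : X.Modules, CohB1.IsAmple A) {n : ℕ} (hn : topologicalKrullDim X = n)
    {S : ShortComplex X.Modules} (hS : S.ShortExact) (h1 : Coh.IsCoh S.X₁) (h2 : Coh.IsCoh S.X₂)
    (h3 : Coh.IsCoh S.X₃) (hdim : topologicalKrullDim (CohB1.support S.X₁) < (n : WithBot ℕ∞))
    (L : X.Modules) (hL : PicF.IsInvertible L) (i : ℕ) :
    W4c5asymptcohfn.hhatF k X n i S.X₂ L = W4c5asymptcohfn.hhatF k X n i S.X₃ L := by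
  rw [hhatF_eq k n i _ L hL, hhatF_eq k n i _ L hL]
  have h := (tendsto_hseq_small k hproj h1 hdim L hL i).add (tendsto_hseq_small k hproj h1 hdim L hL (i + 1))
  rw [add_zero] at h
  refine limsup_eq_of_tendsto_zero (hseq_nonneg k n i _ _) (hseq_nonneg k n i _ _)
    (isBoundedUnder_hseq k hproj h3 (dim_lt_succ_of_dim_eq hn _) L hL i) h (Eventually.of_forall fun m => ?_)
  set c := EulerLib.InvCl.mk L hL ^ m with hc
  have e1 : (hh k S.X₂ i c : ℝ) ≤ hh k S.X₁ i c + hh k S.X₃ i c := by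
    exact_mod_cast (hh_triangle k hS h1 h2 h3 i c).1
  have e2 : (hh k S.X₃ i c : ℝ) ≤ hh k S.X₂ i c + hh k S.X₁ (i + 1) c := by
    exact_mod_cast hh_right k hS h1 h2 h3 i c
  simp only [hseq, ← hc]
  rw [← sub_div, ← add_div, abs_div, abs_of_nonneg (pow_nonneg (Nat.cast_nonneg m : (0 : ℝ) ≤ m) n), ← sub_mul,
    ← add_mul, abs_mul, Nat.abs_cast]
  refine div_le_div_of_nonneg_right (mul_le_mul_of_nonneg_right ?_ (Nat.cast_nonneg _))
    (pow_nonneg (Nat.cast_nonneg _) _)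
  have := (Nat.cast_nonneg (hh k S.X₁ i c) : (0 : ℝ) ≤ _)
  have := (Nat.cast_nonneg (hh k S.X₁ (i + 1) c) : (0 : ℝ) ≤ _)
  exact abs_le.2 ⟨by linarith, by linarith⟩

theorem hhatF_left_eq_mid (hproj : ∃ A : X.Modules, CohB1.IsAmple A) {n : ℕ} (hn : topologicalKrullDim X = n)
    {S : ShortComplex X.Modules} (hS : S.ShortExact) (h1 : Coh.IsCoh S.X₁) (h2 : Coh.IsCoh S.X₂)
    (h3 : Coh.IsCoh S.X₃) (hdim : topologicalKrullDim (CohB1.support S.X₃) < (n : WithBot ℕ∞))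
    (L : X.Modules) (hL : PicF.IsInvertible L) (i : ℕ) :
    W4c5asymptcohfn.hhatF k X n i S.X₁ L = W4c5asymptcohfn.hhatF k X n i S.X₂ L := by
  rw [hhatF_eq k n i _ L hL, hhatF_eq k n i _ L hL]
  have h := (tendsto_hseq_small k hproj h3 hdim L hL i).add (tendsto_hseq_small k hproj h3 hdim L hL (i - 1))
  rw [add_zero] at h
  refine limsup_eq_of_tendsto_zero (hseq_nonneg k n i _ _) (hseq_nonneg k n i _ _)
    (isBoundedUnder_hseq k hproj h2 (dim_lt_succ_of_dim_eq hn _) L hL i) h (Eventually.of_forall fun m => ?_)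
  set c := EulerLib.InvCl.mk L hL ^ m with hc
  obtain ⟨t1, t2⟩ := hh_triangle k hS h1 h2 h3 i c
  have t2' : hh k S.X₁ i c ≤ hh k S.X₂ i c + hh k S.X₃ (i - 1) c := by
    refine t2.trans ?_
    split <;> omega
  have e1 : (hh k S.X₂ i c : ℝ) ≤ hh k S.X₁ i c + hh k S.X₃ i c := by exact_mod_cast t1
  have e2 : (hh k S.X₁ i c : ℝ) ≤ hh k S.X₂ i c + hh k S.X₃ (i - 1) c := by exact_mod_cast t2'
  simp only [hseq, ← hc]
  rw [← sub_div, ← add_div, abs_div, abs_of_nonneg (pow_nonneg (Nat.cast_nonneg m : (0 : ℝ) ≤ m) n), ← sub_mul,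
    ← add_mul, abs_mul, Nat.abs_cast]
  refine div_le_div_of_nonneg_right (mul_le_mul_of_nonneg_right ?_ (Nat.cast_nonneg _))
    (pow_nonneg (Nat.cast_nonneg _) _)
  have := (Nat.cast_nonneg (hh k S.X₃ i c) : (0 : ℝ) ≤ _)
  have := (Nat.cast_nonneg (hh k S.X₃ (i - 1) c) : (0 : ℝ) ≤ _)
  exact abs_le.2 ⟨by linarith, by linarith⟩

variable [IsIntegral X]

/-- Homogeneity. -/
theorem hhat_tensorPow (hproj : ∃ A : X.Modules, CohB1.IsAmple A) {n : ℕ} (hn : topologicalKrullDim X = n)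
    {L : X.Modules} (hL : PicF.IsInvertible L) {a : ℕ} (ha : 1 ≤ a) (i : ℕ) :
    W4c5asymptcohfn.hhat k X n i (CohB1.tensorPow L a) = (a : ℝ) ^ n * W4c5asymptcohfn.hhat k X n i L := by
  haveI := EulerLib.isNoetherian_of_proper (X := X) k
  obtain ⟨M, hM⟩ := VarietyLib.exists_isInverseOf hL
  obtain ⟨u, hu, -⟩ := exists_unit hL hM
  obtain ⟨⟨C₁, -, hC₁⟩, -⟩ := exists_asymp_bounds k ![u] hproj (isCoh_structureModule X) (dim_support_lt hn) i
  obtain ⟨C₂, hC₂⟩ := (exists_bounds k hproj ![u] n).2 _ (isCoh_structureModule X) (dim_support_lt hn) i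
  have hc : ∀ m : ℕ, EulerLib.InvCl.mk L hL ^ m = zcl ![u] ![(m : ℤ)] := fun m => by
    simp [zcl, hu, zpow_natCast]
  set O := Coh.structureModule X
  set ℓ := EulerLib.InvCl.mk L hL
  let f := hseq k n i O ℓ
  let g := hseq k n i O (ℓ ^ a)
  rw [hhat_eq k n i _ (isInvertible_tensorPow hL a), hhat_eq k n i L hL, EulerLib.InvCl.mk_tensorPow hL]
  show limsup g atTop = (a : ℝ) ^ n * limsup f atTop
  have ha' : (0 : ℝ) < a := by exact_mod_cast ha
  have han : (0 : ℝ) < (a : ℝ) ^ n := pow_pos ha' n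
  have hga : ∀ m, g m = (a : ℝ) ^ n * f (a * m) := fun m => by
    show (hh k O i ((ℓ ^ a) ^ m) : ℝ) * (n.factorial : ℝ) / (m : ℝ) ^ n =
      (a : ℝ) ^ n * ((hh k O i (ℓ ^ (a * m)) : ℝ) * (n.factorial : ℝ) / ((a * m : ℕ) : ℝ) ^ n)
    rw [pow_mul]
    push_cast
    rw [mul_pow, mul_div_assoc', mul_div_mul_left _ _ han.ne']
  have hbf : IsBoundedUnder (· ≤ ·) atTop f := isBoundedUnder_hseq k hproj (isCoh_structureModule X)
    (dim_support_lt hn) L hL i
  have hbg : IsBoundedUnder (· ≤ ·) atTop g := by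
    have h := (hC₁ ![(a : ℤ)]).1
    rwa [← hc] at h
  refine le_antisymm (le_of_forall_pos_le_add fun η hη => ?_) (le_of_forall_pos_le_add fun η hη => ?_)
  · have hta : Tendsto (fun m : ℕ => a * m) atTop atTop :=
      tendsto_atTop_mono (fun m => Nat.le_mul_of_pos_left m (by omega)) tendsto_id
    refine limsup_le_of_le (isCoboundedUnder_le_of_le atTop (hseq_nonneg k n i O _)) ?_
    filter_upwards [hta.eventually (eventually_lt_of_limsup_lt (b := limsup f atTop + η / (a : ℝ) ^ n)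
      (by linarith [div_pos hη han]) hbf)] with m hm
    show g m ≤ _
    rw [hga]
    have := mul_le_mul_of_nonneg_left hm.le han.le
    rw [mul_add, mul_div_cancel₀ _ han.ne'] at this
    exact this
  · set B := limsup g atTop + η / 2 with hB
    obtain ⟨N, hN⟩ := eventually_atTop.1 (eventually_lt_of_limsup_lt (b := B) (by linarith) hbg)
    have hB0 : 0 ≤ B := (hseq_nonneg k n i O _ _).trans (hN N le_rfl).le
    let e : ℕ → ℝ := fun m => B * (1 + (a : ℝ) / m) ^ n +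
      (a : ℝ) ^ n * ((a : ℝ) * C₂ * 2 ^ n * n.factorial) * (((bnd n (m * (1 + a)) : ℕ) : ℝ) / (m : ℝ) ^ n)
    have he : Tendsto e atTop (𝓝 B) := by
      have h1 := (((tendsto_const_div_atTop_nhds_zero_nat (a : ℝ)).const_add (1 : ℝ)).pow n).const_mul B
      have h2 := (tendsto_bnd_div n (1 + a)).const_mul ((a : ℝ) ^ n * ((a : ℝ) * C₂ * 2 ^ n * n.factorial))
      simpa using h1.add h2
    suffices hkey : limsup f atTop ≤ B / (a : ℝ) ^ n by
      have := (le_div_iff₀' han).1 hkey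
      linarith
    refine limsup_le_of_tendsto (hseq_nonneg k n i O _) (e := fun m => e m / (a : ℝ) ^ n) (he.div_const _)
      (eventually_atTop.2 ⟨max (a * N) 1, fun m hm => ?_⟩)
    rw [le_div_iff₀' han]
    have hm1 : 1 ≤ m := le_of_max_le_right hm
    obtain ⟨q, hq1, hq2⟩ : ∃ q, m ≤ a * q ∧ a * q ≤ m + a := by
      have h1 := Nat.div_add_mod m a
      have h2 := Nat.mod_lt m (show a > 0 by omega)
      refine ⟨m / a + 1, ?_, ?_⟩ <;> rw [mul_add, mul_one] <;> omega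
    have hqN : N ≤ q := Nat.le_of_mul_le_mul_left ((le_of_max_le_left hm).trans hq1) (by omega)
    have h := abs_sub_le_of_step (fun x => (hh k O i (zcl ![u] x) : ℤ)) (fun N => C₂ * bnd n N)
      (fun M N h => Nat.mul_le_mul_left _ (bnd_mono n h)) hC₂ _ ![(a * q : ℕ)] ![(m : ℤ)] rfl
    have hl : len (![(m : ℤ)] - ![((a * q : ℕ) : ℤ)]) ≤ a := by
      simp [len]
      omega
    rw [← hc, ← hc, show len ![((a * q : ℕ) : ℤ)] = a * q by simp [len, Int.natAbs_mul]] at h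
    have h' : (hh k O i (ℓ ^ m) : ℝ) ≤ hh k O i (ℓ ^ (a * q)) + ((a * (C₂ * (2 ^ n * bnd n (m * (1 + a))))) : ℕ) := by
      have hb : bnd n (a * q + len (![(m : ℤ)] - ![((a * q : ℕ) : ℤ)])) ≤ 2 ^ n * bnd n (m * (1 + a)) := by
        refine (bnd_mono n (show _ ≤ 2 * (m * (1 + a)) by nlinarith)).trans ?_
        rcases n with _ | n
        · exact Nat.zero_le _
        · show (1 + 2 * (m * (1 + a))) ^ n ≤ 2 ^ (n + 1) * (1 + m * (1 + a)) ^ n
          calc (1 + 2 * (m * (1 + a))) ^ n ≤ (2 * (1 + m * (1 + a))) ^ n := Nat.pow_le_pow_left (by omega) n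
            _ = 2 ^ n * (1 + m * (1 + a)) ^ n := mul_pow _ _ _
            _ ≤ _ := Nat.mul_le_mul_right _ (Nat.pow_le_pow_right (by omega) (Nat.le_succ n))
      have h2 := (le_abs_self _).trans h
      have h3 : len (![(m : ℤ)] - ![((a * q : ℕ) : ℤ)]) * (C₂ * bnd n (a * q + len (![(m : ℤ)] - ![((a * q : ℕ) : ℤ)]))) ≤
          a * (C₂ * (2 ^ n * bnd n (m * (1 + a)))) := Nat.mul_le_mul hl (Nat.mul_le_mul_left _ hb)
      have h4 : (hh k O i (ℓ ^ m) : ℤ) ≤ hh k O i (ℓ ^ (a * q)) + ((a * (C₂ * (2 ^ n * bnd n (m * (1 + a))))) : ℕ) := by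
        linarith [show ((len (![(m : ℤ)] - ![((a * q : ℕ) : ℤ)]) *
          (C₂ * bnd n (a * q + len (![(m : ℤ)] - ![((a * q : ℕ) : ℤ)]))) : ℕ) : ℤ) ≤ _ from Int.ofNat_le.2 h3]
      exact_mod_cast h4
    have hmr : (0 : ℝ) < (m : ℝ) ^ n := pow_pos (by exact_mod_cast hm1) n
    have hq0 : (0 : ℝ) < (q : ℝ) := by
      have : 0 < q := by rcases Nat.eq_zero_or_pos q with rfl | h <;> omega
      exact_mod_cast this
    have hgq : (hh k O i (ℓ ^ (a * q)) : ℝ) * n.factorial ≤ B * (q : ℝ) ^ n := by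
      have := (hN q hqN).le
      change (hh k O i ((ℓ ^ a) ^ q) : ℝ) * n.factorial / (q : ℝ) ^ n ≤ B at this
      rwa [← pow_mul, div_le_iff₀ (pow_pos hq0 n)] at this
    have hqa : (a : ℝ) ^ n * (q : ℝ) ^ n ≤ (1 + (a : ℝ) / m) ^ n * (m : ℝ) ^ n := by
      rw [← mul_pow, ← mul_pow]
      refine pow_le_pow_left₀ (by positivity) ?_ n
      rw [add_mul, one_mul, div_mul_cancel₀ _ (by exact_mod_cast (show m ≠ 0 by omega))]
      exact_mod_cast hq2
    show (a : ℝ) ^ n * ((hh k O i (ℓ ^ m) : ℝ) * n.factorial / (m : ℝ) ^ n) ≤ e m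
    rw [mul_div_assoc', div_le_iff₀ hmr]
    show _ ≤ (B * (1 + (a : ℝ) / m) ^ n + (a : ℝ) ^ n * ((a : ℝ) * C₂ * 2 ^ n * n.factorial) *
      (((bnd n (m * (1 + a)) : ℕ) : ℝ) / (m : ℝ) ^ n)) * (m : ℝ) ^ n
    rw [add_mul, mul_assoc ((a : ℝ) ^ n * _), div_mul_cancel₀ _ hmr.ne', mul_assoc B]
    push_cast at h'
    calc (a : ℝ) ^ n * ((hh k O i (ℓ ^ m) : ℝ) * n.factorial)
        ≤ (a : ℝ) ^ n * (((hh k O i (ℓ ^ (a * q)) : ℝ) + (a : ℝ) * (C₂ * (2 ^ n * (bnd n (m * (1 + a)) : ℝ)))) * n.factorial) :=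
          mul_le_mul_of_nonneg_left (mul_le_mul_of_nonneg_right h' (Nat.cast_nonneg _)) han.le
      _ = (a : ℝ) ^ n * ((hh k O i (ℓ ^ (a * q)) : ℝ) * n.factorial) +
          (a : ℝ) ^ n * ((a : ℝ) * C₂ * 2 ^ n * n.factorial) * (bnd n (m * (1 + a)) : ℝ) := by ring
      _ ≤ _ := by
          refine add_le_add ?_ le_rfl
          calc (a : ℝ) ^ n * ((hh k O i (ℓ ^ (a * q)) : ℝ) * n.factorial) ≤ (a : ℝ) ^ n * (B * (q : ℝ) ^ n) :=
                mul_le_mul_of_nonneg_left hgq han.le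
            _ = B * ((a : ℝ) ^ n * (q : ℝ) ^ n) := by ring
            _ ≤ _ := mul_le_mul_of_nonneg_left hqa hB0

end Groth.Agent.H0Growth23

end
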