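import Groth.Agent.H0Growth23.Big

/-!
# Top cohomology of powers of a big invertible module
-/

set_option autoImplicit false
set_option linter.style.haveILetI false
set_option backward.isDefEq.respectTransparency.types false

universe u

open CategoryTheory CategoryTheory.Limits AlgebraicGeometry TopologicalSpace Opposite
open Groth.Agent.Coherent Groth.Agent.PicLib Groth.Agent.AmpleLib

noncomputable section

namespace Groth.Agent.H0Growth23

variable {X : Scheme.{u}} [IsIntegral X] (k : Type u) [Field k] [X.Over (Spec (CommRingCat.of k))]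
  [IsProper (X ↘ Spec (CommRingCat.of k))] {d : ℕ} (hd : topologicalKrullDim X = d)

include k hd in
/-- Multiplication by a section preserves the vanishing of the top cohomology. -/
theorem subsingleton_top_mul {a e : EulerLib.InvCl X} (he : EffCl e)
    (h : Subsingleton (Coh.HH X (repCl a) d)) : Subsingleton (Coh.HH X (repCl (e * a)) d) := by
  haveI := EulerLib.isNoetherian_of_proper (X := X) k
  haveI : X.IsSeparated := EulerLib.isSeparated_of_proper k
  obtain ⟨s, hs⟩ := he
  haveI := CurveRR24.mono_unitDesc (isInvertible_repCl e) hs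
  have hE : Coh.IsCoh (repCl e) := CurveRR24.isCoh_of_isInvertible k (isInvertible_repCl e)
  have hQ : Coh.IsCoh (cokernel (unitDesc (repCl e) s)) := isCoh_cokernel _ (Coherent.isCoh_structureModule X).1 hE
  have ha := isInvertible_repCl a
  have hS : (ShortComplex.mk (unitDesc (repCl e) s) (cokernel.π _) (cokernel.condition _)).ShortExact :=
    { exact := ShortComplex.exact_cokernel _ }
  have hmid := LESBound.hdim_mid k _ (EulerLib.twistSeq_shortExact ha hS)
    (EulerLib.isCoh_twist ha (Coherent.isCoh_structureModule X)) (EulerLib.isCoh_twist ha hE)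
    (EulerLib.isCoh_twist ha hQ) d
  change Module.finrank k (Coh.HH X (CohB1.tensorMod (repCl e) (repCl a)) d) ≤
    Module.finrank k (Coh.HH X (CohB1.tensorMod (Coh.structureModule X) (repCl a)) d) +
      Module.finrank k (Coh.HH X (CohB1.tensorMod (cokernel (unitDesc (repCl e) s)) (repCl a)) d) at hmid
  haveI := h
  have h1 : Module.finrank k (Coh.HH X (CohB1.tensorMod (Coh.structureModule X) (repCl a)) d) = 0 := by
    rw [Mumford23.finrank_HH_congr k (unitTensorIso (repCl a)) d]
    exact Module.finrank_zero_of_subsingleton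
  haveI : Subsingleton (Coh.HH X (CohB1.tensorMod (cokernel (unitDesc (repCl e) s)) (repCl a)) d) := by
    have hT : topologicalKrullDim ((glocus (repCl e) s : Set X)ᶜ : Set X) < (d : ℕ) :=
      EulerLib.dim_lt_of_notMem (glocus (repCl e) s).2.isClosed_compl (Set.subset_univ _) isClosed_univ
        (genericPoint_spec X) (fun h => h (CurveRR24.genericPoint_mem_glocus (isInvertible_repCl _) hs))
        ((Topology.IsInducing.subtypeVal.topologicalKrullDim_le).trans hd.le)
    exact EulerLib.subsingleton_HH_of_support ⟨_, (glocus (repCl e) s).2.isClosed_compl⟩ _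
      (EulerLib.isCoh_twist ha hQ).1
      ((EulerLib.support_twist ha _).le.trans (CurveRR24.support_cokernel_unitDesc s)) d hT
  rw [h1, Module.finrank_zero_of_subsingleton
    (M := Coh.HH X (CohB1.tensorMod (cokernel (unitDesc (repCl e) s)) (repCl a)) d), add_zero, Nat.le_zero] at hmid
  have hN := isInvertible_tensorMod (isInvertible_repCl e) ha
  obtain ⟨ee⟩ := nonempty_iso_repCl _ hN
  have hc : EulerLib.InvCl.mk _ hN = e * a := by
    rw [← EulerLib.InvCl.mk_mul (isInvertible_repCl e) ha, mk_repCl, mk_repCl]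
  rw [hc] at ee
  rw [← Mumford23.finrank_HH_congr k ee d] at hmid
  haveI := CurveRR24.finite_HH_of_isCoh k (CurveRR24.isCoh_of_isInvertible k (isInvertible_repCl (e * a))) d
  exact Module.finrank_zero_iff.1 hmid

include hd in
/-- The top cohomology of high powers of a big class vanishes. -/
theorem exists_subsingleton_top (hd1 : 1 ≤ d) (hproj : ∃ A : X.Modules, CohB1.IsAmple A) {ℓ : EulerLib.InvCl X}
    (hbig : ∀ C : ℚ, ∃ m : ℕ, 1 ≤ m ∧ C * (m : ℚ) ^ d < (h0Cl k (ℓ ^ m) : ℚ) * m) :
    ∃ N : ℕ, ∀ m : ℕ, N ≤ m → Subsingleton (Coh.HH X (repCl (ℓ ^ m)) d) := by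
  haveI := EulerLib.isNoetherian_of_proper (X := X) k
  obtain ⟨A, hA, hA0⟩ := exists_ample_eff k hproj
  obtain ⟨a', ha'⟩ := exists_inv hA.1
  obtain ⟨m₀, hm₀, he⟩ := exists_eff_sub_ample k hd hA hA0 ha' hbig
  obtain ⟨r₀, hr₀⟩ := exists_forall_effCl k hA hA0 ha' hm₀ he
  obtain ⟨q, hq⟩ := Coherent.Serre.exists_subsingleton_HH_twist k hA _ (Coherent.isCoh_structureModule X)
  refine ⟨m₀ * q + r₀, fun m hm => ?_⟩
  have h := hq q le_rfl d hd1
  have h2 : Subsingleton (Coh.HH X (repCl (EulerLib.InvCl.mk A hA.1 ^ q)) d) := by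
    obtain ⟨e⟩ := nonempty_iso_repCl _ (isInvertible_tensorPow hA.1 q)
    rw [EulerLib.InvCl.mk_tensorPow hA.1] at e
    exact CurveRR24.subsingleton_HH_congr ((unitTensorIso (CohB1.tensorPow A q)) ≪≫ e.symm) d h
  have h3 := subsingleton_top_mul k hd (hr₀ (m - m₀ * q) (by omega))
    (subsingleton_top_mul k hd (he.pow q) h2)
  have hc : ℓ ^ (m - m₀ * q) * ((ℓ ^ m₀ * a') ^ q * EulerLib.InvCl.mk A hA.1 ^ q) = ℓ ^ m := by
    rw [← mul_pow, mul_assoc, mul_comm a', ha', mul_one, ← pow_mul, ← pow_add]
    congr 1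
    omega
  rwa [hc] at h3

end Groth.Agent.H0Growth23

end
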